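import Groth.Agent.Algz.K573.HatCompl
import Groth.Agent.Algz.K572.Dist
import Groth.Agent.Sga2lef.H106.Depth
import Groth.Agent.LoccohA.EquidimS2
import Groth.Agent.LoccohA.RatliffD
import Groth.Agent.Ega4dB.DepthOpen

/-!
# The strict inequalities: from the completed stalk to the stalk
-/

set_option autoImplicit false
universe u

open CategoryTheory CategoryTheory.Limits AlgebraicGeometry Opposite
open Groth.Agent Groth.Agent.LoccohA Groth.Agent.LoccohB
open Groth.Agent.Ega4B.CatHeight IsLocalRing

attribute [local instance] HasDerivedCategory.standard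

namespace K573.StrictLoc

section Alg

variable {R : Type u} [CommRing R] [IsNoetherianRing R] [IsLocalRing R]

theorem coheight_eq_rlen (p : PrimeSpectrum R) : Order.coheight p = rlen p (closedPoint R) := by
  have h1 := Groth.Agent.LoccohA.EquidimS2.ringKrullDim_quotient_eq_rlen p
  have h2 := Groth.Agent.LoccohA.RatliffD.ringKrullDim_quotient_eq_coheight p
  rw [h1] at h2
  exact (WithBot.coe_inj.1 h2).symm

/-- A prime over `p` in the completion, of no greater depth. -/
theorem exists_prime_over (hω : ∃ ω : Dual.D R, Dual.IsDualizing R ω) (I : Ideal R)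
    (hI : I ≤ maximalIdeal R)
    (N : Type u) [AddCommGroup N] [Module R N] [Module.Finite R N]
    (p : PrimeSpectrum R) (hp : ¬ I ≤ p.asIdeal) :
    ∃ P : PrimeSpectrum (AdicCompletion I R), ¬ I.map (algebraMap R (AdicCompletion I R)) ≤ P.asIdeal ∧
      Algz.depthAt P (AdicCompletion I N) ≤ Algz.depthAt p N ∧
      Algz.depthAt P (AdicCompletion I N) + Order.coheight P = Algz.depthAt p N + Order.coheight p := by
  have hfg : I.FG := Ideal.fg_of_isNoetherianRing I
  have : IsLocalRing (AdicCompletion I R) := Sga2lef.H106.Local.isLocalRing_cp I hI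
  have : IsNoetherianRing (AdicCompletion I R) :=
    Groth.Agent.FormalB.AdicNoeth.isNoetherianRing_adicCompletion I
  have : Module.Flat R (AdicCompletion I R) := AdicCompletion.flat_of_isNoetherian I
  have hIm : I.map (algebraMap R (AdicCompletion I R)) ≤ maximalIdeal (AdicCompletion I R) :=
    Sga2lef.H106.Local.map_le_of_isMaximal I hI _ inferInstance
  have hcomap : PrimeSpectrum.comap (algebraMap R (AdicCompletion I R))
      (closedPoint (AdicCompletion I R)) = closedPoint R := by
    apply PrimeSpectrum.ext
    change (maximalIdeal (AdicCompletion I R)).comap _ = maximalIdeal R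
    refine le_antisymm (le_maximalIdeal ?_) (Ideal.map_le_iff_le_comap.1
      (Sga2lef.H106.Local.map_maximalIdeal I hI).le)
    exact (Ideal.IsPrime.comap (algebraMap R (AdicCompletion I R))).ne_top
  have hple : p ≤ closedPoint R := le_maximalIdeal p.isPrime.ne_top
  obtain ⟨l, hl1, hl2, hl3⟩ := exists_ltSeries_of_rlen_ne_top hple (rlen_ne_top p (closedPoint R))
  have hover : (maximalIdeal (AdicCompletion I R)).LiesOver l.last.asIdeal := by
    constructor
    rw [hl2]
    exact (congrArg PrimeSpectrum.asIdeal hcomap).symm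
  obtain ⟨L, hL1, hL2, hL3⟩ := Ideal.exists_ltSeries_of_hasGoingDown l
    (maximalIdeal (AdicCompletion I R))
  have hhead : PrimeSpectrum.comap (algebraMap R (AdicCompletion I R)) L.head = p := by
    rw [← hl1, ← L.toList_getElem_zero_eq_head, ← l.toList_getElem_zero_eq_head]
    rw [List.getElem_of_eq hL3.symm _, List.getElem_map]
  have hLle : L.head ≤ closedPoint (AdicCompletion I R) := le_maximalIdeal L.head.isPrime.ne_top
  have hlen : (rlen p (closedPoint R)) ≤ rlen L.head (closedPoint (AdicCompletion I R)) := by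
    rw [← hl3, ← hL1]
    exact le_rlen L rfl hL2
  have hnI : ¬ I.map (algebraMap R (AdicCompletion I R)) ≤ L.head.asIdeal := by
    intro h
    apply hp
    rw [← hhead]
    exact Ideal.map_le_iff_le_comap.1 h
  obtain ⟨-, h2⟩ := S1714.result R hω I N L.head (closedPoint (AdicCompletion I R)) hLle hIm
  rw [hcomap, CutoffLoc.krullDim_Icc hLle] at h2
  have hle' : PrimeSpectrum.comap (algebraMap R (AdicCompletion I R)) L.head ≤ closedPoint R := by
    rw [hhead]; exact hple
  rw [CutoffLoc.krullDim_Icc hle'] at h2
  have key : ∀ a : PrimeSpectrum R,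
      PrimeSpectrum.comap (algebraMap R (AdicCompletion I R)) L.head = a →
      ((LocCoh.depth (Localization.AtPrime L.head.asIdeal)
        (LocalizedModule L.head.asIdeal.primeCompl (AdicCompletion I N)) : ℕ∞) : WithBot ℕ∞) +
        ((rlen L.head (closedPoint (AdicCompletion I R)) : ℕ∞) : WithBot ℕ∞) =
      ((LocCoh.depth (Localization.AtPrime a.asIdeal)
        (LocalizedModule a.asIdeal.primeCompl N) : ℕ∞) : WithBot ℕ∞) +
        ((rlen a (closedPoint R) : ℕ∞) : WithBot ℕ∞) := by
    rintro _ rfl
    exact h2
  have h3 := key p hhead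
  rw [← WithBot.coe_add, ← WithBot.coe_add, WithBot.coe_inj] at h3
  refine ⟨L.head, hnI, ?_, ?_⟩
  · have h4 : Algz.depthAt L.head (AdicCompletion I N) + rlen p (closedPoint R) ≤
        Algz.depthAt p N + rlen p (closedPoint R) := by
      rw [← h3]
      gcongr
    exact (ENat.add_le_add_iff_right (rlen_ne_top p (closedPoint R))).1 h4
  · rw [coheight_eq_rlen, coheight_eq_rlen]
    exact h3

theorem strict_local (hω : ∃ ω : Dual.D R, Dual.IsDualizing R ω) (I : Ideal R)
    (hI : I ≤ maximalIdeal R)
    (N : Type u) [AddCommGroup N] [Module R N] [Module.Finite R N] (δ : ℕ∞) (a b : ℕ)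
    (h : Algz.StrictAbIneqAt (AdicCompletion I R) (I.map (algebraMap R (AdicCompletion I R)))
      (AdicCompletion I N) δ a b)
    (p : PrimeSpectrum R) (hp : ¬ I ≤ p.asIdeal) :
    (a : ℕ∞) < Algz.depthAt p N + δ ∨ (b : ℕ∞) < Algz.depthAt p N + Order.coheight p + δ := by
  obtain ⟨P, hP, h1, h2⟩ := exists_prime_over hω I hI N p hp
  rcases h P hP with h3 | h3
  · left
    refine h3.trans_le ?_
    gcongr
  · right
    rw [← h2]
    exact h3

end Alg

end K573.StrictLoc
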