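import Groth.Agent.Dual.H341.StalkTr
import Groth.Agent.FormalB.PuncTheta2
import Groth.Agent.Ega4B.LocTransfer
import Groth.Agent.Algz.K573.StrictLoc

/-!
# Stalks of `M~|_U` as localizations
-/

set_option autoImplicit false
universe u

open CategoryTheory CategoryTheory.Limits AlgebraicGeometry Opposite
open Groth.Agent Groth.Agent.FormalB.PuncTheta Groth.Agent.Ega4B.CatHeight IsLocalRing
open Groth.Agent.Dcoh.StalkRes

namespace K573.StalkBridge

variable {A : Type u} [CommRing A] (U : (Spec (CommRingCat.of A)).Opens) (y : (U : Scheme.{u}))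

/-- The prime of `A` under a point of `U`. -/
noncomputable abbrev pt : PrimeSpectrum A := U.ι.base y

theorem over_eq : ((U : Scheme.{u}) ↘ Spec (CommRingCat.of A)) = U.ι :=
  Category.comp_id U.ι

theorem toStalk_eq (a : A) : Algz.toStalk A (U : Scheme.{u}) y a =
    ringIso U.ι y (Groth.Agent.Dual.H341.StalkTr.tos (CommRingCat.of A) (U.ι y) a) := by
  rw [ringIso_apply]
  have h2 : Groth.Agent.Dual.H341.StalkTr.tos (CommRingCat.of A) (U.ι y) a =
      (Spec (CommRingCat.of A)).presheaf.germ ⊤ (U.ι y) trivial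
        ((Scheme.ΓSpecIso (CommRingCat.of A)).inv a) := rfl
  rw [h2]
  have h3 := Scheme.Hom.germ_stalkMap_apply U.ι ⊤ y trivial
    ((Scheme.ΓSpecIso (CommRingCat.of A)).inv a)
  rw [h3]
  unfold Algz.toStalk Coh.toGlobal
  rw [over_eq]
  rfl

/-- `O_{U,y}` as an `A`-algebra. -/
@[reducible] noncomputable def alg : Algebra A ((U : Scheme.{u}).presheaf.stalk y) :=
  (Algz.toStalk A (U : Scheme.{u}) y).toAlgebra

theorem isLocalization :
    letI := alg U y
    IsLocalization.AtPrime ((U : Scheme.{u}).presheaf.stalk y) (pt U y).asIdeal := by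
  letI := alg U y
  letI := Groth.Agent.Dual.H341.StalkTr.algStalk (CommRingCat.of A) (U.ι y)
  have h1 := Groth.Agent.Dual.H341.StalkTr.isLocalization_stalk (CommRingCat.of A) (U.ι y)
  let e : (Spec (CommRingCat.of A)).presheaf.stalk (U.ι y) ≃ₐ[A]
      (U : Scheme.{u}).presheaf.stalk y :=
    AlgEquiv.ofRingEquiv (f := ringIso U.ι y) (fun a => (toStalk_eq U y a).symm)
  exact IsLocalization.isLocalization_of_algEquiv _ e

/-- An `O_{U,y}`-module as an `A`-module. -/
@[reducible] noncomputable def mod (F : (U : Scheme.{u}).Modules) : Module A (F.presheaf.stalk y) :=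
  Module.compHom _ (Algz.toStalk A (U : Scheme.{u}) y)

theorem exists_loc (M : Type u) [AddCommGroup M] [Module A M] (F : (U : Scheme.{u}).Modules)
    (e : (Theta U).obj (ModuleCat.of A M) ≅ F) :
    letI := mod U y F
    ∃ g : M →ₗ[A] F.presheaf.stalk y, IsLocalizedModule (pt U y).asIdeal.primeCompl g := by
  letI i1 := mod U y F
  letI i2 := Groth.Agent.Dual.H341.StalkTr.modStalk (CommRingCat.of A) (U.ι y) (ModuleCat.of A M)
  obtain ⟨g₀, hg₀⟩ := Groth.Agent.Dual.H341.StalkTr.exists_isLocalizedModule_stalk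
    (CommRingCat.of A) (U.ι y) (ModuleCat.of A M)
  let l := CycB.StalkExact.stalkLinEquiv e y
  let s := addIso U.ι (tilde (R := CommRingCat.of A) (ModuleCat.of A M)) y
  have hs : ∀ (a : A) (m : (tilde (R := CommRingCat.of A) (ModuleCat.of A M)).presheaf.stalk (U.ι y)),
      s.symm (a • m) = Algz.toStalk A (U : Scheme.{u}) y a • s.symm m := by
    intro a m
    rw [AddEquiv.symm_apply_eq, toStalk_eq, addIso_smul, AddEquiv.apply_symm_apply]
    rfl
  let E : (tilde (R := CommRingCat.of A) (ModuleCat.of A M)).presheaf.stalk (U.ι y) ≃ₗ[A]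
      F.presheaf.stalk y :=
    { s.symm.trans l.toAddEquiv with
      map_smul' := fun a m => by
        change l (s.symm (a • m)) = Algz.toStalk A (U : Scheme.{u}) y a • l (s.symm m)
        rw [hs]
        exact l.map_smul _ _ }
  exact ⟨E.toLinearMap ∘ₗ g₀, IsLocalizedModule.of_linearEquiv _ g₀ E⟩

variable {M : Type u} [AddCommGroup M] [Module A M] {F : (U : Scheme.{u}).Modules}
    (e : (Theta U).obj (ModuleCat.of A M) ≅ F)

include e in
/-- The depth of the stalk. -/
theorem depth_stalk : LocCoh.depth ((U : Scheme.{u}).presheaf.stalk y) (F.presheaf.stalk y) =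
    Algz.depthAt (pt U y) M := by
  letI := alg U y
  letI := mod U y F
  haveI : IsScalarTower A ((U : Scheme.{u}).presheaf.stalk y) (F.presheaf.stalk y) :=
    IsScalarTower.of_algebraMap_smul fun _ _ => rfl
  haveI := isLocalization U y
  obtain ⟨g, hg⟩ := exists_loc U y M F e
  exact Groth.Agent.Ega4dB.DepthOpen.depth_eq_of_isLocalizedModule (pt U y).asIdeal M _ g

/-- The prime of `A` under a prime of `O_{U,y}`. -/
noncomputable abbrev cm (p : PrimeSpectrum ((U : Scheme.{u}).presheaf.stalk y)) : PrimeSpectrum A :=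
  PrimeSpectrum.comap (Algz.toStalk A (U : Scheme.{u}) y) p

include e in
theorem depthAt_stalk (p : PrimeSpectrum ((U : Scheme.{u}).presheaf.stalk y)) :
    Algz.depthAt p (F.presheaf.stalk y) = Algz.depthAt (cm U y p) M := by
  letI := alg U y
  letI := mod U y F
  haveI : IsScalarTower A ((U : Scheme.{u}).presheaf.stalk y) (F.presheaf.stalk y) :=
    IsScalarTower.of_algebraMap_smul fun _ _ => rfl
  haveI := isLocalization U y
  obtain ⟨g, hg⟩ := exists_loc U y M F e
  exact Groth.Agent.Ega4B.LocTransfer.depth_eq_of_isLocalization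
    (pt U y).asIdeal.primeCompl g p.asIdeal

/-- `cm` as an order embedding. -/
noncomputable def cmEmb : PrimeSpectrum ((U : Scheme.{u}).presheaf.stalk y) ↪o PrimeSpectrum A :=
  letI := alg U y
  haveI := isLocalization U y
  (IsLocalization.AtPrime.primeSpectrumOrderIso ((U : Scheme.{u}).presheaf.stalk y)
    (pt U y).asIdeal).toOrderEmbedding.trans (OrderEmbedding.subtype _)

theorem cmEmb_apply (p : PrimeSpectrum ((U : Scheme.{u}).presheaf.stalk y)) :
    cmEmb U y p = cm U y p := rfl

theorem cm_le (p : PrimeSpectrum ((U : Scheme.{u}).presheaf.stalk y)) : cm U y p ≤ pt U y := by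
  letI := alg U y
  haveI := isLocalization U y
  exact (IsLocalization.AtPrime.primeSpectrumOrderIso ((U : Scheme.{u}).presheaf.stalk y)
    (pt U y).asIdeal p).2

theorem exists_cm {P : PrimeSpectrum A} (h : P ≤ pt U y) : ∃ p, cm U y p = P := by
  letI := alg U y
  haveI := isLocalization U y
  obtain ⟨p, hp⟩ := (IsLocalization.AtPrime.primeSpectrumOrderIso
    ((U : Scheme.{u}).presheaf.stalk y) (pt U y).asIdeal).surjective ⟨P, h⟩
  exact ⟨p, congrArg Subtype.val hp⟩

theorem cm_closedPoint : cm U y (closedPoint _) = pt U y := by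
  refine le_antisymm (cm_le U y _) ?_
  obtain ⟨p, hp⟩ := exists_cm U y (le_refl (pt U y))
  rw [← hp, ← cmEmb_apply, ← cmEmb_apply]
  exact (cmEmb U y).monotone (le_maximalIdeal p.isPrime.ne_top)

theorem coheight_cm [IsNoetherianRing A] (p : PrimeSpectrum ((U : Scheme.{u}).presheaf.stalk y)) :
    Order.coheight p = rlen (cm U y p) (pt U y) := by
  haveI := isLocalization U y
  rw [K573.StrictLoc.coheight_eq_rlen, ← cm_closedPoint U y, ← cmEmb_apply, ← cmEmb_apply]
  refine (Groth.Agent.LoccohA.CutoffLoc.rlen_embedding (cmEmb U y) ?_ _ _).symm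
  intro a b hab
  obtain ⟨p, hp⟩ := exists_cm U y (hab.trans (cm_le U y b))
  exact ⟨p, hp⟩

theorem stalkIdeal_le_iff (I : Ideal A) (p : PrimeSpectrum ((U : Scheme.{u}).presheaf.stalk y)) :
    Algz.stalkIdeal I y ≤ p.asIdeal ↔ I ≤ (cm U y p).asIdeal :=
  Ideal.map_le_iff_le_comap

theorem hasDual (h : Groth.Agent.S0377.HasDual A) :
    Groth.Agent.S0377.HasDual ((U : Scheme.{u}).presheaf.stalk y) := by
  letI := alg U y
  haveI := isLocalization U y
  exact (h.localization (pt U y).asIdeal.primeCompl).of_ringEquiv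
    (IsLocalization.algEquiv (pt U y).asIdeal.primeCompl
      (Localization (pt U y).asIdeal.primeCompl) ((U : Scheme.{u}).presheaf.stalk y)).toRingEquiv

end K573.StalkBridge
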