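import Groth.Agent.Algz.K573.Base

/-!
# Changing the base ring of formal systems
-/

set_option autoImplicit false
universe u

open CategoryTheory CategoryTheory.Limits AlgebraicGeometry Opposite
open Groth.Agent.FormalB.ModPow

namespace K573.BaseRing

variable {A A' : Type u} [CommRing A] [CommRing A'] [Algebra A A'] {X : Scheme.{u}}
  [X.Over (Spec (CommRingCat.of A))] [X.Over (Spec (CommRingCat.of A'))]

variable (A A' X) in
/-- Compatibility of the two structure morphisms. -/
def Compat : Prop :=
  (X ↘ Spec (CommRingCat.of A')) ≫ Spec.map (CommRingCat.ofHom (algebraMap A A')) =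
    X ↘ Spec (CommRingCat.of A)

theorem toGlobal_eq (hX : Compat A A' X) (a : A) :
    Coh.toGlobal (X ↘ Spec (CommRingCat.of A)) a =
      Coh.toGlobal (X ↘ Spec (CommRingCat.of A')) (algebraMap A A' a) := by
  have h1 : (X ↘ Spec (CommRingCat.of A)).appTop =
      (Spec.map (CommRingCat.ofHom (algebraMap A A'))).appTop ≫
        (X ↘ Spec (CommRingCat.of A')).appTop := by
    rw [← Scheme.Hom.comp_appTop]
    congr 1
    exact hX.symm
  change (X ↘ Spec (CommRingCat.of A)).appTop _ = (X ↘ Spec (CommRingCat.of A')).appTop _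
  rw [h1]
  have h2 := Scheme.ΓSpecIso_inv_naturality (CommRingCat.ofHom (algebraMap A A'))
  have h3 : (Spec.map (CommRingCat.ofHom (algebraMap A A'))).appTop
      ((Scheme.ΓSpecIso (CommRingCat.of A)).inv a) =
      (Scheme.ΓSpecIso (CommRingCat.of A')).inv (algebraMap A A' a) :=
    congr(($h2).hom a).symm
  exact congrArg (X ↘ Spec (CommRingCat.of A')).appTop h3

theorem smulMod_eq (hX : Compat A A' X) (M : X.Modules) (a : A) :
    Formal.smulMod A M a = Formal.smulMod A' M (algebraMap A A' a) := by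
  rw [Formal.smulMod, Formal.smulMod, toGlobal_eq hX]

theorem forall_iff (hX : Compat A A' X) {M N : X.Modules} (φ : M ⟶ N) (J : Ideal A) :
    (∀ a ∈ J, Formal.smulMod A M a ≫ φ = 0) ↔
      ∀ a ∈ J.map (algebraMap A A'), Formal.smulMod A' M a ≫ φ = 0 := by
  constructor
  · intro h a ha
    refine Submodule.span_induction (p := fun a _ => Formal.smulMod A' M a ≫ φ = 0) ?_ ?_ ?_ ?_ ha
    · rintro _ ⟨b, hb, rfl⟩
      rw [← smulMod_eq hX]
      exact h b hb
    · rw [smulMod_zero, zero_comp]
    · intro x y _ _ hx hy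
      rw [smulMod_add, Preadditive.add_comp, hx, hy, add_zero]
    · intro c x _ hx
      rw [smul_eq_mul, mul_comm, smulMod_mul, Category.assoc, hx, comp_zero]
  · intro h a ha
    rw [smulMod_eq hX]
    exact h _ (Ideal.mem_map_of_mem _ ha)

theorem isModPow_iff_map (hX : Compat A A' X) {M N : X.Modules} (p : M ⟶ N) (J : Ideal A) :
    IsModPow J p ↔ IsModPow (J.map (algebraMap A A')) p := by
  constructor
  · intro h
    exact ⟨h.epi, (forall_iff hX p J).1 h.smul_comp, fun φ hφ => h.desc φ ((forall_iff hX φ J).2 hφ)⟩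
  · intro h
    exact ⟨h.epi, (forall_iff hX p J).2 h.smul_comp, fun φ hφ => h.desc φ ((forall_iff hX φ J).1 hφ)⟩

theorem killedBy_iff_map (hX : Compat A A' X) (M : X.Modules) (J : Ideal A) :
    Formal.KilledBy J M ↔ Formal.KilledBy (J.map (algebraMap A A')) M := by
  have := forall_iff hX (𝟙 M) J
  simpa [Formal.KilledBy] using this

theorem isFormal_iff_map (hX : Compat A A' X) (G : ℕᵒᵖ ⥤ X.Modules) (I : Ideal A) :
    IsFormal I G ↔ IsFormal (I.map (algebraMap A A')) G := by
  constructor
  · intro h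
    refine ⟨fun n => ?_, fun n => ?_⟩
    · rw [← Ideal.map_pow, ← killedBy_iff_map hX]; exact h.killed n
    · rw [← Ideal.map_pow, ← isModPow_iff_map hX]; exact h.succ n
  · intro h
    refine ⟨fun n => ?_, fun n => ?_⟩
    · rw [killedBy_iff_map hX, Ideal.map_pow]; exact h.killed n
    · rw [isModPow_iff_map hX, Ideal.map_pow]; exact h.succ n

theorem isCohFormal_iff_map (hX : Compat A A' X) (G : ℕᵒᵖ ⥤ X.Modules) (I : Ideal A) :
    Formal.IsCohFormal I G ↔ Formal.IsCohFormal (I.map (algebraMap A A')) G := by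
  rw [isCohFormal_iff, isCohFormal_iff, isFormal_iff_map hX]

end K573.BaseRing
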