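import Groth.Prelude.Def_Algz
import Groth.Agent.FormalB.ModPow

/-!
# Pro-isomorphisms of inverse systems: functoriality, and formal systems
-/

set_option autoImplicit false
universe v u v' u'

open CategoryTheory CategoryTheory.Limits AlgebraicGeometry Opposite
open Groth.Agent.FormalB.ModPow

namespace K573.ProIso

section Cat

variable {C : Type u} [Category.{v} C] {D : Type u'} [Category.{v'} D]

theorem tr_eq (X : ARSys.PS C) {n m : ℕ} (h : n ≤ m) : ARSys.tr X h = X.map (homOfLE h).op := rfl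

theorem tr_trans (X : ARSys.PS C) {a b c : ℕ} (h : a ≤ b) (h' : b ≤ c) :
    ARSys.tr X h' ≫ ARSys.tr X h = ARSys.tr X (h.trans h') := by
  rw [tr_eq, tr_eq, tr_eq, ← X.map_comp]
  rfl

theorem tr_self (X : ARSys.PS C) {a : ℕ} (h : a ≤ a) : ARSys.tr X h = 𝟙 _ := X.map_id _

theorem tr_nat {X Y : ARSys.PS C} (f : X ⟶ Y) {a b : ℕ} (h : a ≤ b) :
    ARSys.tr X h ≫ f.app (op a) = f.app (op b) ≫ ARSys.tr Y h := f.naturality _

theorem tr_whisker (X : ARSys.PS C) (L : C ⥤ D) {a b : ℕ} (h : a ≤ b) :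
    ARSys.tr (X ⋙ L) h = L.map (ARSys.tr X h) := rfl

/-- Functors preserve pro-isomorphisms. -/
theorem isProIso_map (L : C ⥤ D) {X Y : ARSys.PS C} {a : X ⟶ Y} (ha : DerCA.IsProIso a) :
    DerCA.IsProIso (Functor.whiskerRight a L) := by
  intro n
  obtain ⟨m, h, b, h1, h2⟩ := ha n
  refine ⟨m, h, L.map b, ?_, ?_⟩
  · rw [tr_whisker, ← h1, L.map_comp]
    rfl
  · rw [tr_whisker, ← h2, L.map_comp]
    rfl

/-- Composition with isomorphisms of systems. -/
theorem isProIso_comp_iso {X Y Z : ARSys.PS C} {a : X ⟶ Y} (ha : DerCA.IsProIso a) (e : Y ⟶ Z)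
    [IsIso e] : DerCA.IsProIso (a ≫ e) := by
  intro n
  obtain ⟨m, h, b, h1, h2⟩ := ha n
  refine ⟨m, h, (inv e).app (op m) ≫ b, ?_, ?_⟩
  · rw [NatTrans.comp_app, Category.assoc]
    have : e.app (op m) ≫ (inv e).app (op m) = 𝟙 _ := by
      rw [← NatTrans.comp_app, IsIso.hom_inv_id]; rfl
    rw [← Category.assoc (e.app (op m)), this, Category.id_comp, h1]
  · rw [NatTrans.comp_app, Category.assoc, ← Category.assoc b, h2, tr_nat, ← Category.assoc]
    have : (inv e).app (op m) ≫ e.app (op m) = 𝟙 _ := by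
      rw [← NatTrans.comp_app, IsIso.inv_hom_id]; rfl
    rw [this, Category.id_comp]

theorem isProIso_iso_comp {X Y Z : ARSys.PS C} {a : Y ⟶ Z} (ha : DerCA.IsProIso a) (e : X ⟶ Y)
    [IsIso e] : DerCA.IsProIso (e ≫ a) := by
  intro n
  obtain ⟨m, h, b, h1, h2⟩ := ha n
  refine ⟨m, h, b ≫ (inv e).app (op n), ?_, ?_⟩
  · rw [NatTrans.comp_app, Category.assoc, ← Category.assoc _ b, h1, tr_nat, ← Category.assoc]
    have : e.app (op m) ≫ (inv e).app (op m) = 𝟙 _ := by
      rw [← NatTrans.comp_app, IsIso.hom_inv_id]; rfl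
    rw [this, Category.id_comp]
  · rw [NatTrans.comp_app, Category.assoc]
    have : (inv e).app (op n) ≫ e.app (op n) = 𝟙 _ := by
      rw [← NatTrans.comp_app, IsIso.inv_hom_id]; rfl
    rw [← Category.assoc ((inv e).app (op n)), this, Category.id_comp, h2]

/-- Functors preserve "pro-isomorphic". -/
theorem isProIsomorphic_map (L : C ⥤ D) {X Y : ARSys.PS C} (h : Algz.IsProIsomorphic X Y) :
    Algz.IsProIsomorphic (X ⋙ L) (Y ⋙ L) := by
  obtain ⟨m, hm, hle, a, ha⟩ := h
  exact ⟨m, hm, hle, Functor.whiskerRight a L, isProIso_map L ha⟩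

theorem isProIsomorphic_iso_right {X Y Z : ARSys.PS C} (h : Algz.IsProIsomorphic X Y) (e : Y ≅ Z) :
    Algz.IsProIsomorphic X Z := by
  obtain ⟨m, hm, hle, a, ha⟩ := h
  exact ⟨m, hm, hle, a ≫ e.hom, isProIso_comp_iso ha e.hom⟩

theorem isProIsomorphic_iso_left {X Y Z : ARSys.PS C} (h : Algz.IsProIsomorphic Y Z) (e : X ≅ Y) :
    Algz.IsProIsomorphic X Z := by
  obtain ⟨m, hm, hle, a, ha⟩ := h
  exact ⟨m, hm, hle, (Functor.whiskerLeft (Monotone.functor hm).op e.hom) ≫ a,
    isProIso_iso_comp ha _⟩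

end Cat

section Formal

variable {A : Type u} [CommRing A] {X : Scheme.{u}} [X.Over (Spec (CommRingCat.of A))]

/-- Full faithfulness of `Coh(X, I)` (more generally: formal systems) in pro-objects. -/
theorem existsUnique_of_reindex {I : Ideal A} {F G : ℕᵒᵖ ⥤ X.Modules}
    (hF : IsFormal I F) (hG : ∀ n, Formal.KilledBy (I ^ (n + 1)) (G.obj (op n))) {m : ℕ → ℕ}
    (hm : Monotone m) (hle : ∀ n : ℕ, n ≤ m n) (π : DerCA.reindex F hm ⟶ F)
    (hπ : ∀ n : ℕ, π.app (op n) = F.map (homOfLE (hle n)).op) (α : DerCA.reindex F hm ⟶ G) :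
    ∃! β : F ⟶ G, π ≫ β = α := by
  have hq : ∀ n : ℕ, IsModPow (I ^ (n + 1)) (π.app (op n)) := fun n => by
    rw [hπ n]
    exact hF.isModPow (hle n)
  have he : ∀ n : ℕ, Epi (π.app (op n)) := fun n => (hq n).epi
  have hd : ∀ n : ℕ, ∃ ψ : F.obj (op n) ⟶ G.obj (op n), π.app (op n) ≫ ψ = α.app (op n) := by
    intro n
    refine (hq n).desc (α.app (op n)) fun a ha => ?_
    have h1 : Formal.smulMod A ((DerCA.reindex F hm).obj (op n)) a ≫ α.app (op n) =
        α.app (op n) ≫ Formal.smulMod A (G.obj (op n)) a := smulMod_naturality _ _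
    refine h1.trans ?_
    rw [hG n a ha, comp_zero]
  choose ψ hψ using hd
  refine ⟨NatTrans.ofOpSequence (F := F) (G := G) (fun n => ψ n) (fun n => ?_), ?_, ?_⟩
  · have := he (n + 1)
    rw [← cancel_epi (π.app (op (n + 1)))]
    have h1 := π.naturality (homOfLE (Nat.le_succ n)).op
    have h2 := α.naturality (homOfLE (Nat.le_succ n)).op
    have h3 : π.app (op (n + 1)) ≫ F.map (homOfLE (Nat.le_succ n)).op ≫ ψ n =
        (DerCA.reindex F hm).map (homOfLE (Nat.le_succ n)).op ≫ α.app (op n) := by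
      rw [← hψ n, ← Category.assoc, ← Category.assoc, h1]
    have h4 : π.app (op (n + 1)) ≫ ψ (n + 1) ≫ G.map (homOfLE (Nat.le_succ n)).op =
        (DerCA.reindex F hm).map (homOfLE (Nat.le_succ n)).op ≫ α.app (op n) := by
      rw [← Category.assoc, hψ (n + 1), h2]
    exact h3.trans h4.symm
  · ext n : 2
    obtain ⟨n⟩ := n
    exact hψ n
  · intro β hβ
    ext n : 2
    obtain ⟨n⟩ := n
    have := he n
    refine (cancel_epi (π.app (op n))).1 ?_
    have h1 : π.app (op n) ≫ β.app (op n) = α.app (op n) := congrArg (fun t => t.app (op n)) hβ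
    exact h1.trans (hψ n).symm

/-- The canonical map from a re-indexing. -/
noncomputable def reπ {C : Type u'} [Category.{v'} C] (F : ARSys.PS C) {m : ℕ → ℕ} (hm : Monotone m)
    (hle : ∀ n : ℕ, n ≤ m n) : DerCA.reindex F hm ⟶ F where
  app n := F.map (homOfLE (hle n.unop)).op
  naturality n n' f := by
    change F.map _ ≫ F.map _ = F.map _ ≫ F.map _
    rw [← F.map_comp, ← F.map_comp]
    rfl

/-- Two pro-isomorphic formal systems are isomorphic. -/
theorem nonempty_iso_of_isProIsomorphic {I : Ideal A} {F G : ℕᵒᵖ ⥤ X.Modules}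
    (hF : IsFormal I F) (hG : IsFormal I G) (h : Algz.IsProIsomorphic F G) : Nonempty (F ≅ G) := by
  obtain ⟨m, hm, hle, a, ha⟩ := h
  have hπ : ∀ n : ℕ, (reπ F hm hle).app (op n) = F.map (homOfLE (hle n)).op := fun n => rfl
  obtain ⟨β, hβ, -⟩ := existsUnique_of_reindex hF hG.killed hm hle (reπ F hm hle) hπ a
  have hβn : ∀ n : ℕ, (reπ F hm hle).app (op n) ≫ β.app (op n) = a.app (op n) := fun n =>
    congrArg (fun t => t.app (op n)) hβ
  have hiso : ∀ n : ℕᵒᵖ, IsIso (β.app n) := by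
    rintro ⟨n⟩
    obtain ⟨k, hk, b, h1, h2⟩ := ha n
    have hqG := hG.isModPow hk
    have hqF : IsModPow (I ^ (k + 1)) ((reπ F hm hle).app (op k)) := hF.isModPow (hle k)
    have hqF' : IsModPow (I ^ (n + 1)) (F.map (homOfLE hk).op) := hF.isModPow hk
    have := hqG.epi
    have := hqF.epi
    have := hqF'.epi
    obtain ⟨γ, hγ⟩ := hqG.desc (b ≫ (reπ F hm hle).app (op n)) (fun c hc => by
      rw [smulMod_naturality_assoc]
      have h3 : Formal.smulMod A ((DerCA.reindex F hm).obj (op n)) c ≫ (reπ F hm hle).app (op n) =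
        (reπ F hm hle).app (op n) ≫ Formal.smulMod A (F.obj (op n)) c := smulMod_naturality _ _
      rw [h3, hF.killed n c hc, comp_zero, comp_zero])
    refine ⟨γ, ?_, ?_⟩
    · rw [← cancel_epi (F.map (homOfLE hk).op), ← cancel_epi ((reπ F hm hle).app (op k))]
      have e1 : F.map (homOfLE hk).op ≫ β.app (op n) = β.app (op k) ≫ G.map (homOfLE hk).op :=
        β.naturality _
      have e2 : (reπ F hm hle).app (op k) ≫ F.map (homOfLE hk).op =
          ARSys.tr (DerCA.reindex F hm) hk ≫ (reπ F hm hle).app (op n) :=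
        ((reπ F hm hle).naturality _).symm
      calc (reπ F hm hle).app (op k) ≫ F.map (homOfLE hk).op ≫ β.app (op n) ≫ γ
          = (reπ F hm hle).app (op k) ≫ (F.map (homOfLE hk).op ≫ β.app (op n)) ≫ γ := by
            simp only [Category.assoc]
        _ = ((reπ F hm hle).app (op k) ≫ β.app (op k)) ≫ G.map (homOfLE hk).op ≫ γ := by
            rw [e1]; simp only [Category.assoc]
        _ = a.app (op k) ≫ b ≫ (reπ F hm hle).app (op n) := by rw [hβn k, hγ]
        _ = ARSys.tr (DerCA.reindex F hm) hk ≫ (reπ F hm hle).app (op n) := by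
            rw [← Category.assoc, h1]
        _ = (reπ F hm hle).app (op k) ≫ F.map (homOfLE hk).op ≫ 𝟙 _ := by
            rw [Category.comp_id]; exact e2.symm
    · rw [← cancel_epi (G.map (homOfLE hk).op), ← Category.assoc, hγ, Category.assoc, hβn n, h2]
      exact (Category.comp_id _).symm
  have := NatIso.isIso_of_isIso_app β
  exact ⟨asIso β⟩

end Formal

end K573.ProIso
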