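import Groth.Prelude.Def_Algz
import Groth.Agent.Algz.K573.ProIso
import Groth.Agent.FormalB.PuncSys
import Groth.Agent.FormalB.PullSys
import Groth.Agent.Ega1.ExtendAff2

/-!
# Extension of systems: restriction, the counit, basic lemmas
-/

set_option autoImplicit false
universe u

open CategoryTheory CategoryTheory.Limits AlgebraicGeometry Opposite TopologicalSpace
open Groth.Agent.FormalB.ModPow Groth.Agent.FormalB.PuncTheta Groth.Agent.FormalB.PuncTheta2
open Groth.Agent.FormalB.PullSys

namespace K573.Base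

section Restrict

variable {A : Type u} [CommRing A] {X Y : Scheme.{u}} [X.Over (Spec (CommRingCat.of A))]
  [Y.Over (Spec (CommRingCat.of A))] (f : X ⟶ Y) [IsOpenImmersion f]

theorem isCoh_iso {X : Scheme.{u}} {M N : X.Modules} (e : M ≅ N) (hM : Coh.IsCoh M) : Coh.IsCoh N :=
  ⟨(SheafOfModules.isQuasicoherent X.ringCatSheaf).prop_of_iso e hM.1,
    Groth.Agent.CohqB.FiniteType.IsFT.of_iso hM.2 e⟩

theorem isCoh_restrict {X : Scheme.{u}} {M : X.Modules} (hM : Coh.IsCoh M) (U : X.Opens) :
    Coh.IsCoh ((Scheme.Modules.restrictFunctor U.ι).obj M) := by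
  have := hM.1
  exact ⟨(inferInstance : Coh.IsQCoh (M.restrict U.ι)),
    Groth.Agent.CohqB.FiniteType.IsFT.restrict hM.2 U.ι⟩

theorem restrict_map_eq {M N : Y.Modules} (p : M ⟶ N) :
    (Scheme.Modules.restrictFunctor f).map p =
      (Scheme.Modules.restrictFunctorIsoPullback f).hom.app M ≫
        (Scheme.Modules.pullback f).map p ≫ (Scheme.Modules.restrictFunctorIsoPullback f).inv.app N := by
  rw [(Scheme.Modules.restrictFunctorIsoPullback f).inv.naturality, Iso.hom_inv_id_app_assoc]

theorem restrict_isModPow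
    (hf : f ≫ (Y ↘ Spec (CommRingCat.of A)) = X ↘ Spec (CommRingCat.of A)) {M N : Y.Modules}
    {J : Ideal A} {p : M ⟶ N} (hp : IsModPow J p) :
    IsModPow J ((Scheme.Modules.restrictFunctor f).map p) := by
  rw [restrict_map_eq]
  exact ((pullback_isModPow f hf hp).comp_iso _).iso_comp _

theorem restrict_killedBy
    (hf : f ≫ (Y ↘ Spec (CommRingCat.of A)) = X ↘ Spec (CommRingCat.of A)) {M : Y.Modules}
    {J : Ideal A} (hM : Formal.KilledBy J M) :
    Formal.KilledBy J ((Scheme.Modules.restrictFunctor f).obj M) :=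
  killedBy_of_iso ((Scheme.Modules.restrictFunctorIsoPullback f).symm.app M)
    (pullback_killedBy f hf hM)

theorem restrict_isFormal
    (hf : f ≫ (Y ↘ Spec (CommRingCat.of A)) = X ↘ Spec (CommRingCat.of A)) {I : Ideal A}
    {G : ℕᵒᵖ ⥤ Y.Modules} (hG : IsFormal I G) :
    IsFormal I (G ⋙ Scheme.Modules.restrictFunctor f) where
  killed n := restrict_killedBy f hf (hG.killed n)
  succ n := restrict_isModPow f hf (hG.succ n)

end Restrict

/-- A system isomorphic to a formal one is formal. -/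
theorem isFormal_iso {A : Type u} [CommRing A] {X : Scheme.{u}} [X.Over (Spec (CommRingCat.of A))]
    {I : Ideal A} {F G : ℕᵒᵖ ⥤ X.Modules} (e : F ≅ G) (hF : IsFormal I F) : IsFormal I G where
  killed n := killedBy_of_iso (e.app (op n)) (hF.killed n)
  succ n := by
    have h1 : G.map (homOfLE (Nat.le_succ n)).op =
        e.inv.app (op (n + 1)) ≫ F.map (homOfLE (Nat.le_succ n)).op ≫ e.hom.app (op n) := by
      have h2 := e.inv.naturality (homOfLE (Nat.le_succ n)).op
      rw [← Category.assoc]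
      refine Eq.trans ?_ (congrArg (fun t => t ≫ e.hom.app (op n)) h2)
      have h3 : e.inv.app (op n) ≫ e.hom.app (op n) = 𝟙 _ := e.inv_hom_id_app (op n)
      rw [Category.assoc, h3]
      exact (Category.comp_id _).symm
    rw [h1]
    exact ((hF.succ n).comp_iso _).iso_comp _

theorem isCohFormal_iso {A : Type u} [CommRing A] {X : Scheme.{u}} [X.Over (Spec (CommRingCat.of A))]
    {I : Ideal A} {F G : ℕᵒᵖ ⥤ X.Modules} (e : F ≅ G) (hF : Formal.IsCohFormal I F) :
    Formal.IsCohFormal I G := by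
  rw [isCohFormal_iff] at hF ⊢
  exact ⟨fun n => isCoh_iso (e.app (op n)) (hF.1 n), isFormal_iso e hF.2⟩

/-- Restriction of a coherent formal system to an open. -/
theorem isCohFormal_restrictSys {A : Type u} [CommRing A] {X : Scheme.{u}}
    [X.Over (Spec (CommRingCat.of A))] (U : X.Opens) {I : Ideal A} {G : ℕᵒᵖ ⥤ X.Modules}
    (hG : Formal.IsCohFormal I G) : Formal.IsCohFormal I (Algz.restrictSys U G) := by
  rw [isCohFormal_iff] at hG ⊢
  exact ⟨fun n => isCoh_restrict (hG.1 n) U, restrict_isFormal U.ι rfl hG.2⟩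

section Spec

variable {A : Type u} [CommRing A] (U : (Spec (CommRingCat.of A)).Opens)

/-- Restriction of a coherent formal system on `Spec A` to an open. -/
theorem isCohFormal_restrictSys_spec {I : Ideal A} {G : ℕᵒᵖ ⥤ (Spec (CommRingCat.of A)).Modules}
    (hG : @Formal.IsCohFormal A _ (Spec (CommRingCat.of A)) ⟨𝟙 (Spec (CommRingCat.of A))⟩ I G) :
    Formal.IsCohFormal I (Algz.restrictSys (X := Spec (CommRingCat.of A)) U G) := by
  rw [isCohFormal_iff] at hG ⊢
  exact ⟨fun n => isCoh_restrict (hG.1 n) U, restrict_isFormal U.ι (Category.comp_id _) hG.2⟩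

theorem sectMod_eq (G : ℕᵒᵖ ⥤ (U : Scheme.{u}).Modules) : Algz.sectMod A U G = G ⋙ Gam U := rfl

theorem sectSys_restrict_eq (G : ℕᵒᵖ ⥤ (U : Scheme.{u}).Modules) :
    Algz.restrictSys (X := Spec (CommRingCat.of A)) U (Algz.sectSys A U G) = G ⋙ Gam U ⋙ Theta U := rfl

/-- The sections of a quasi-coherent system on a quasi-compact open restrict to the system. -/
noncomputable def sectSysRestrictIso (hU : IsCompact (U : Set (Spec (CommRingCat.of A))))
    (G : ℕᵒᵖ ⥤ (U : Scheme.{u}).Modules) (hG : ∀ n : ℕ, Coh.IsQCoh (G.obj (op n))) :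
    Algz.restrictSys (X := Spec (CommRingCat.of A)) U (Algz.sectSys A U G) ≅ G :=
  NatIso.ofComponents (fun n => @asIso _ _ _ _ ((adj U).counit.app (G.obj n))
      (isIso_counit U hU _ (hG n.unop)))
    (fun f => (adj U).counit.naturality (G.map f))

theorem extends_of_canonicallyExtends (hU : IsCompact (U : Set (Spec (CommRingCat.of A))))
    (I : Ideal A) (G : ℕᵒᵖ ⥤ (U : Scheme.{u}).Modules) (hG : Formal.IsCohFormal I G)
    (h : Algz.CanonicallyExtends A I U G) :
    @Algz.Extends A _ (Spec (CommRingCat.of A)) ⟨𝟙 (Spec (CommRingCat.of A))⟩ I U G := by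
  obtain ⟨G', hG', hp⟩ := h
  have h1 := ProIso.isProIsomorphic_map (Scheme.Modules.restrictFunctor U.ι) hp
  have h2 : Algz.IsProIsomorphic G (Algz.restrictSys (X := Spec (CommRingCat.of A)) U G') :=
    ProIso.isProIsomorphic_iso_left h1
      (sectSysRestrictIso U hU G (fun n => (hG.1 n).1)).symm
  have h3 := isCohFormal_restrictSys_spec U hG'
  rw [isCohFormal_iff] at hG h3
  obtain ⟨e⟩ := ProIso.nonempty_iso_of_isProIsomorphic hG.2 h3.2 h2
  exact ⟨G', hG', ⟨e.symm⟩⟩

end Spec

end K573.Base
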