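import Groth.Agent.Algz.K573.EquivBC
import Groth.Agent.S0829
import Groth.Agent.S0851
import Groth.Agent.Sga67.FlatPre

/-!
# Formal systems and maps with kernel and cokernel killed by a power of `I`
-/

set_option autoImplicit false
universe u

open CategoryTheory CategoryTheory.Limits AlgebraicGeometry Opposite
open Groth.Agent.FormalB.ModPow

namespace K573.KerCoker

section Pullback

variable {A : Type u} [CommRing A] {X X' : Scheme.{u}} [X.Over (Spec (CommRingCat.of A))]
  [X'.Over (Spec (CommRingCat.of A))]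

theorem kerCoker_pullback (f : X' ⟶ X)
    (hf : f ≫ (X ↘ Spec (CommRingCat.of A)) = X' ↘ Spec (CommRingCat.of A)) [Flat f] {I : Ideal A}
    {G G' : ℕᵒᵖ ⥤ X.Modules} (α : G ⟶ G') (hα : Formal2.KerCokerKilledByIPow I α) :
    Formal2.KerCokerKilledByIPow I (Functor.whiskerRight α (Scheme.Modules.pullback f)) := by
  have hfl := Groth.Agent.Sga67.FlatPre.preservesFiniteLimits_pullback f
  obtain ⟨t, ht⟩ := hα
  refine ⟨t, fun n => ⟨?_, ?_⟩⟩
  · exact killedBy_of_iso (PreservesKernel.iso (Scheme.Modules.pullback f) (α.app (op n)))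
      (Groth.Agent.FormalB.PullSys.pullback_killedBy f hf (ht n).1)
  · exact killedBy_of_iso (PreservesCokernel.iso (Scheme.Modules.pullback f) (α.app (op n)))
      (Groth.Agent.FormalB.PullSys.pullback_killedBy f hf (ht n).2)

theorem kerCoker_iso_comp {I : Ideal A} {G G' G'' : ℕᵒᵖ ⥤ X.Modules} (e : G'' ≅ G) (α : G ⟶ G')
    (hα : Formal2.KerCokerKilledByIPow I α) : Formal2.KerCokerKilledByIPow I (e.hom ≫ α) := by
  obtain ⟨t, ht⟩ := hα
  refine ⟨t, fun n => ⟨?_, ?_⟩⟩
  · exact killedBy_of_iso (kernelIsIsoComp (e.hom.app (op n)) (α.app (op n))).symm (ht n).1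
  · exact killedBy_of_iso (cokernelEpiComp (e.hom.app (op n)) (α.app (op n))).symm (ht n).2

theorem kerCoker_comp_iso {I : Ideal A} {G G' G'' : ℕᵒᵖ ⥤ X.Modules} (e : G' ≅ G'') (α : G ⟶ G')
    (hα : Formal2.KerCokerKilledByIPow I α) : Formal2.KerCokerKilledByIPow I (α ≫ e.hom) := by
  obtain ⟨t, ht⟩ := hα
  refine ⟨t, fun n => ⟨?_, ?_⟩⟩
  · exact killedBy_of_iso (kernelCompMono (α.app (op n)) (e.hom.app (op n))).symm (ht n).1
  · exact killedBy_of_iso (cokernelCompIsIso (α.app (op n)) (e.hom.app (op n))).symm (ht n).2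

end Pullback

section BaseChange

variable {A A' : Type u} [CommRing A] [CommRing A'] [Algebra A A'] {X : Scheme.{u}}
  [X.Over (Spec (CommRingCat.of A))] [X.Over (Spec (CommRingCat.of A'))]

theorem kerCoker_iff_map (hX : BaseRing.Compat A A' X) {I : Ideal A} {G G' : ℕᵒᵖ ⥤ X.Modules}
    (α : G ⟶ G') : Formal2.KerCokerKilledByIPow I α ↔
      Formal2.KerCokerKilledByIPow (I.map (algebraMap A A')) α := by
  unfold Formal2.KerCokerKilledByIPow
  simp_rw [BaseRing.killedBy_iff_map hX, Ideal.map_pow]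

end BaseChange

section Completion

variable {A : Type u} [CommRing A]

/-- Being a completion is invariant. -/
theorem exists_completion_iff {I : Ideal A} {X : Scheme.{u}} [X.Over (Spec (CommRingCat.of A))]
    [IsNoetherian X] {G G' : ℕᵒᵖ ⥤ X.Modules} (hG : Formal.IsCohFormal I G)
    (hG' : Formal.IsCohFormal I G') (α : G ⟶ G') (hα : Formal2.KerCokerKilledByIPow I α) :
    (∃ F : X.Modules, Coh.IsCoh F ∧ Nonempty (Formal.completion I F ≅ G)) ↔
      ∃ F : X.Modules, Coh.IsCoh F ∧ Nonempty (Formal.completion I F ≅ G') := by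
  constructor
  · rintro ⟨F, hF, ⟨e⟩⟩
    obtain ⟨F', a, β, h1, -, -⟩ := Groth.Agent.S0851.result A I X F hF G' hG' (e.hom ≫ α)
      (kerCoker_iso_comp e α hα)
    exact ⟨F', h1, ⟨β⟩⟩
  · rintro ⟨F, hF, ⟨e⟩⟩
    obtain ⟨F', a, β, h1, -, -⟩ := Groth.Agent.S0829.result A I X F hF G hG (α ≫ e.inv)
      (kerCoker_comp_iso e.symm α hα)
    exact ⟨F', h1, ⟨β.symm⟩⟩

/-- Extension of formal systems is insensitive to maps with kernel and cokernel killed by a power
of `I`. -/
theorem extends_iff [IsNoetherianRing A] (I : Ideal A) (U : (Spec (CommRingCat.of A)).Opens)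
    (G G' : ℕᵒᵖ ⥤ (U : Scheme.{u}).Modules) (hG : Formal.IsCohFormal I G)
    (hG' : Formal.IsCohFormal I G') (α : G ⟶ G') (hα : Formal2.KerCokerKilledByIPow I α) :
    @Algz.Extends A _ (Spec (CommRingCat.of A)) ⟨𝟙 (Spec (CommRingCat.of A))⟩ I U G ↔
    @Algz.Extends A _ (Spec (CommRingCat.of A)) ⟨𝟙 (Spec (CommRingCat.of A))⟩ I U G' := by
  rw [EquivBC.extends_iff_adicCompletion I U G hG, EquivBC.extends_iff_adicCompletion I U G' hG']
  have hN : IsNoetherianRing (AdicCompletion I A) :=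
    Groth.Agent.FormalB.AdicNoeth.isNoetherianRing_adicCompletion I
  have hfl : Module.Flat A (AdicCompletion I A) := AdicCompletion.flat_of_isNoetherian I
  have hf0 : Flat (Spec.map (CommRingCat.ofHom (algebraMap A (AdicCompletion I A)))) := by
    rw [Flat.SpecMap_iff]
    exact RingHom.flat_algebraMap_iff.2 inferInstance
  set f := Spec.map (CommRingCat.ofHom (algebraMap A (AdicCompletion I A))) with hfdef
  have n2 : IsNoetherian (Spec (CommRingCat.of (AdicCompletion I A))) := inferInstance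
  have n4 : IsNoetherian ((f ⁻¹ᵁ U : (Spec (CommRingCat.of (AdicCompletion I A))).Opens) : Scheme.{u}) :=
    EquivBC.isNoetherian_opens _
  letI : ((f ⁻¹ᵁ U : (Spec (CommRingCat.of (AdicCompletion I A))).Opens) : Scheme.{u}).Over
      (Spec (CommRingCat.of A)) :=
    ⟨(((f ⁻¹ᵁ U : (Spec (CommRingCat.of (AdicCompletion I A))).Opens) : Scheme.{u}) ↘
      Spec (CommRingCat.of (AdicCompletion I A))) ≫ f⟩
  have hc : BaseRing.Compat A (AdicCompletion I A)
      ((f ⁻¹ᵁ U : (Spec (CommRingCat.of (AdicCompletion I A))).Opens) : Scheme.{u}) := rfl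
  have hp2 : IsPullback ((f ⁻¹ᵁ U : Scheme.{u}) ↘ Spec (CommRingCat.of (AdicCompletion I A))) (f ∣_ U) f
      ((U : Scheme.{u}) ↘ Spec (CommRingCat.of A)) := (isPullback_morphismRestrict f U).flip
  have hf1 : (f ∣_ U) ≫ ((U : Scheme.{u}) ↘ Spec (CommRingCat.of A)) =
      (f ⁻¹ᵁ U : Scheme.{u}) ↘ Spec (CommRingCat.of A) := hp2.w.symm
  have hf2 : Flat (f ∣_ U) := inferInstance
  have key : ∀ {H : ℕᵒᵖ ⥤ (U : Scheme.{u}).Modules}, Formal.IsCohFormal I H →
      Formal.IsCohFormal (I.map (algebraMap A (AdicCompletion I A)))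
        (H ⋙ Scheme.Modules.pullback (f ∣_ U)) := by
    intro H hH
    rw [← BaseRing.isCohFormal_iff_map hc]
    rw [isCohFormal_iff] at hH ⊢
    exact ⟨fun n => Groth.Agent.FormalB.PullCoh.isCoh_pullback (f ∣_ U) (hH.1 n),
      Groth.Agent.FormalB.PullSys.pullback_isFormal (f ∣_ U) hf1 hH.2⟩
  exact exists_completion_iff (key hG) (key hG')
    (Functor.whiskerRight α (Scheme.Modules.pullback (f ∣_ U)))
    ((kerCoker_iff_map hc _).1 (kerCoker_pullback (f ∣_ U) hf1 α hα))

end Completion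

end K573.KerCoker
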