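import Groth.Agent.Flat2C.BlowProper
import Groth.Agent.Divis.BlowChart
import Groth.Agent.Ega2.BlowBasic
import Groth.Prelude.Def_Wider

/-!
# Basic geometry of the blow-up of an affine scheme: properness, isomorphism off the centre, charts
-/

set_option autoImplicit false
universe u

open CategoryTheory AlgebraicGeometry Limits BlowUp

namespace K573.BlowGeo

open Groth.Agent.Divis Groth.Agent.Divis.BlowChart Groth.Agent Groth.Agent.Ega2.BlowBasic

/-- The ring map of global functions of `fromSpec`. -/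
theorem glob_fromSpec_comp {A : Type u} [CommRing A] {X' : Scheme.{u}} (b : X' ⟶ Spec (CommRingCat.of A))
    {U : X'.Opens} (hU : IsAffineOpen U) :
    hU.fromSpec ≫ b = Spec.map (CommRingCat.ofHom ((resT X' U).comp (glob b))) := by
  apply hom_ext_glob
  have h1 : glob (Spec.map (CommRingCat.ofHom ((resT X' U).comp (glob b)))) =
      (glob (𝟙 (Spec (CommRingCat.of Γ(X', U))))).comp ((resT X' U).comp (glob b)) := by
    rw [← glob_map, Category.id_comp]
  rw [h1, glob_comp, ← RingHom.comp_assoc]
  congr 1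
  have h2 : hU.fromSpec.appTop = X'.presheaf.map (homOfLE (le_top : U ≤ ⊤)).op ≫
      (Scheme.ΓSpecIso Γ(X', U)).inv := by
    have h0 : ∀ g : Opposite.op (⊤ : (Spec Γ(X', U)).Opens) ⟶ Opposite.op ⊤,
      (Spec Γ(X', U)).presheaf.map g = 𝟙 _ := fun g => by
        rw [Subsingleton.elim g (𝟙 _), CategoryTheory.Functor.map_id]
    have h3 := hU.fromSpec_app_of_le ⊤ le_top
    refine h3.trans ?_
    exact congrArg _ ((congrArg _ (h0 _)).trans (Category.comp_id _))
  rw [h2]
  rfl

variable (A : Type u) [CommRing A] (J : Ideal A) {X' : Scheme.{u}}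
  (b : X' ⟶ Spec (CommRingCat.of A))
  (hb : IsBlowUp b (Scheme.IdealSheafData.ofIdealTop
    (J.map (Scheme.ΓSpecIso (CommRingCat.of A)).inv.hom)))

include hb

/-- Existence of standard charts: every point lies on an affine chart `Spec B` on which `J` is generated by
a nonzerodivisor. -/
theorem exists_chart (x' : X') :
    ∃ (B : Type u) (_ : CommRing B) (_ : Algebra A B) (φ : Spec (CommRingCat.of B) ⟶ X')
      (_ : IsOpenImmersion φ) (t : B), x' ∈ Set.range φ.base ∧
      φ ≫ b = Spec.map (CommRingCat.ofHom (algebraMap A B)) ∧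
      J.map (algebraMap A B) = Ideal.span {t} ∧ t ∈ nonZeroDivisors B := by
  obtain ⟨U, hxU, f, hf, hfU⟩ := hb.1 x'
  have hU : IsAffineOpen U.1 := U.2
  refine ⟨Γ(X', U.1), inferInstance, ((resT X' U.1).comp (glob b)).toAlgebra, hU.fromSpec, inferInstance, f,
    ?_, ?_, ?_, hf⟩
  · change x' ∈ Set.range hU.fromSpec
    rw [hU.range_fromSpec]
    exact hxU
  · exact glob_fromSpec_comp b hU
  · rw [← hfU, comap_idl_ideal]
    rfl

/-- The blow-up of a finitely generated ideal is proper. -/
theorem isProper (hJ : J.FG) : IsProper b := by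
  refine Flat2C.BlowProper.isProper_of_isBlowUp hb fun U => ?_
  rw [Scheme.IdealSheafData.ofIdealTop_ideal]
  exact (hJ.map _).map _

/-- The blow-up is an isomorphism off the centre. -/
theorem isIso_restrict : IsIso (b ∣_ LocCoh.puncturedOpen A J) := by
  obtain ⟨r, hr, h⟩ := exists_isIso_offSupport hb
  have hU : offSupport (idl J) = LocCoh.puncturedOpen A J := by
    ext x
    rw [SetLike.mem_coe, mem_offSupport, ← SetLike.mem_coe, Scheme.IdealSheafData.coe_support_ofIdealTop,
      Ideal.map, Scheme.zeroLocus_span]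
    exact not_congr (Set.ext_iff.1 (Spec_zeroLocus_eq_zeroLocus (R := CommRingCat.of A) (J : Set A)) x)
  have hU' : offSupport ((idl J).comap b) = b ⁻¹ᵁ LocCoh.puncturedOpen A J := by
    rw [← hU]
    ext x
    rw [SetLike.mem_coe, mem_offSupport, Scheme.IdealSheafData.support_comap]
    rfl
  have key : ∀ (U : (Spec (CommRingCat.of A)).Opens) (U' : X'.Opens) (_ : offSupport (idl J) = U)
      (_ : offSupport ((idl J).comap b) = U'),
      ∃ r : (U' : Scheme.{u}) ⟶ U, IsIso r ∧ r ≫ U.ι = U'.ι ≫ b := by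
    rintro _ _ rfl rfl
    exact ⟨r, hr, h⟩
  obtain ⟨r', hr', h'⟩ := key _ _ hU hU'
  have : b ∣_ LocCoh.puncturedOpen A J = r' := by
    rw [← cancel_mono (LocCoh.puncturedOpen A J).ι, h', morphismRestrict_ι]
  rw [this]
  exact hr'

end K573.BlowGeo
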