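import Groth.Agent.Algz.K573.ModLim
import Groth.Agent.S0797

/-!
# Extension of systems and completions of coherent modules
-/

set_option autoImplicit false
universe u

open CategoryTheory CategoryTheory.Limits AlgebraicGeometry Opposite
open Groth.Agent.FormalB.ModPow Groth.Agent.FormalB.AdicSys K573.TildeSys K573.ModLim
open Groth.Agent.FormalB.PuncTheta Groth.Agent.FormalB.PuncTheta2

namespace K573.Compl

section General

variable {A : Type u} [CommRing A] {X Y : Scheme.{u}} [X.Over (Spec (CommRingCat.of A))]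
  [Y.Over (Spec (CommRingCat.of A))]

/-- Restriction of the completion. -/
noncomputable def restrictCompletionIso (f : X ⟶ Y) [IsOpenImmersion f]
    (hf : f ≫ (Y ↘ Spec (CommRingCat.of A)) = X ↘ Spec (CommRingCat.of A)) (I : Ideal A) (M : Y.Modules) :
    Formal.completion I ((Scheme.Modules.restrictFunctor f).obj M) ≅
      Formal.completion I M ⋙ Scheme.Modules.restrictFunctor f :=
  completionIso I (G := Formal.completion I M ⋙ Scheme.Modules.restrictFunctor f)
    (fun n => (Scheme.Modules.restrictFunctor f).map (cπ I M n))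
    (fun n => Base.restrict_isModPow f hf (isModPow_cπ I M n))
    (fun n => by
      change (Scheme.Modules.restrictFunctor f).map _ ≫ (Scheme.Modules.restrictFunctor f).map _ = _
      rw [← Functor.map_comp, cπ_map_succ])

/-- Pullback of the completion. -/
noncomputable def pullbackCompletionIso (f : X ⟶ Y)
    (hf : f ≫ (Y ↘ Spec (CommRingCat.of A)) = X ↘ Spec (CommRingCat.of A)) (I : Ideal A) (M : Y.Modules) :
    Formal.completion I ((Scheme.Modules.pullback f).obj M) ≅
      Formal.completion I M ⋙ Scheme.Modules.pullback f :=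
  completionIso I (G := Formal.completion I M ⋙ Scheme.Modules.pullback f)
    (fun n => (Scheme.Modules.pullback f).map (cπ I M n))
    (fun n => Groth.Agent.FormalB.PullSys.pullback_isModPow f hf (isModPow_cπ I M n))
    (fun n => by
      change (Scheme.Modules.pullback f).map _ ≫ (Scheme.Modules.pullback f).map _ = _
      rw [← Functor.map_comp, cπ_map_succ])

/-- The completion of isomorphic modules. -/
noncomputable def completionMapIso (I : Ideal A) {M N : X.Modules} (e : M ≅ N) :
    Formal.completion I M ≅ Formal.completion I N where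
  hom := completionMap I e.hom
  inv := completionMap I e.inv
  hom_inv_id := by rw [← completionMap_comp, e.hom_inv_id, completionMap_id]
  inv_hom_id := by rw [← completionMap_comp, e.inv_hom_id, completionMap_id]

theorem isCohFormal_completion (I : Ideal A) {M : X.Modules} (hM : Coh.IsCoh M) :
    Formal.IsCohFormal I (Formal.completion I M) := by
  rw [isCohFormal_iff]
  exact ⟨fun n => Groth.Agent.FormalB.FormalLoc.isCoh_modPow I (n + 1) hM, isFormal_completion I M⟩

end General

section Spec

variable {A : Type u} [CommRing A] (U : (Spec (CommRingCat.of A)).Opens)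

/-- The completion of a coherent module on a quasi-compact open extends. -/
theorem extends_of_completion (hU : IsCompact (U : Set (Spec (CommRingCat.of A)))) (I : Ideal A)
    (G : ℕᵒᵖ ⥤ (U : Scheme.{u}).Modules) (F : (U : Scheme.{u}).Modules) (hF : Coh.IsCoh F)
    (e : Formal.completion I F ≅ G) :
    @Algz.Extends A _ (Spec (CommRingCat.of A)) ⟨𝟙 (Spec (CommRingCat.of A))⟩ I U G := by
  obtain ⟨N, _, _, hN, ⟨i⟩⟩ := exists_finite_iso U hU F hF
  let M : (Spec (CommRingCat.of A)).Modules := (tilde.functor (CommRingCat.of A)).obj (ModuleCat.of A N)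
  have hM : Coh.IsCoh M := isCoh_tilde (ModuleCat.of A N)
  refine ⟨Formal.completion I M, isCohFormal_completion I hM, ⟨?_⟩⟩
  exact (restrictCompletionIso U.ι (Category.comp_id _) I M).symm ≪≫
    completionMapIso I i ≪≫ e

/-- The completion of the tilde of the limit of an adic system, when the limit behaves well. -/
noncomputable def completionLimIso (I : Ideal A) (S : ℕᵒᵖ ⥤ ModuleCat.{u} A)
    (hs : ∀ n, Function.Surjective (Lim.proj (M := fun n => S.obj (op n)) (tmap S) n))
    (hk : ∀ n (x : L S), x.1 n = 0 ↔ x ∈ (I ^ (n + 1) • ⊤ : Submodule A (L S))) :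
    Formal.completion I ((tilde.functor (CommRingCat.of A)).obj (ModuleCat.of A (L S))) ≅
      S ⋙ tilde.functor (CommRingCat.of A) :=
  completionIso I (G := S ⋙ tilde.functor (CommRingCat.of A))
    (fun n => (tilde.functor (CommRingCat.of A)).map
      (ModuleCat.ofHom (Lim.proj (M := fun n => S.obj (op n)) (tmap S) n) : ModuleCat.of A (L S) ⟶ S.obj (op n)))
    (fun n => isModPow_tilde _ _ (hs n) (hk n)) (fun n => by
      change (tilde.functor (CommRingCat.of A)).map _ ≫ (tilde.functor (CommRingCat.of A)).map _ = _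
      rw [← Functor.map_comp]
      congr 1
      ext x
      exact x.2 n)

theorem finite_L [IsNoetherianRing A] (I : Ideal A) [IsAdicComplete I A] (S : ℕᵒᵖ ⥤ ModuleCat.{u} A)
    (hS : IsAdicMod I S) : Module.Finite A (L S) ∧
    (∀ n, Function.Surjective (Lim.proj (M := fun n => S.obj (op n)) (tmap S) n)) ∧
    (∀ n (x : L S), x.1 n = 0 ↔ x ∈ (I ^ (n + 1) • ⊤ : Submodule A (L S))) := by
  have hfin : ∀ n, Module.Finite A (S.obj (op n)) := hS.finite
  obtain ⟨h1, h2⟩ := Groth.Agent.S0797.result A I (fun n => S.obj (op n)) (tmap S) hS.surj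
    (fun n => by
      rw [eq_bot_iff, Submodule.smul_le]
      intro a ha x _
      rw [Submodule.mem_bot]
      exact hS.kill n a ha x)
    (fun n => by
      ext x
      exact ker_iff hS n x)
    (L S) (fun x => Iff.rfl)
  refine ⟨h1, fun n => (h2 n).1, fun n x => ?_⟩
  rw [← (h2 n).2]
  rfl

theorem exists_completion_mod [IsNoetherianRing A] (I : Ideal A) [IsAdicComplete I A]
    (S : ℕᵒᵖ ⥤ ModuleCat.{u} A) (hS : IsAdicMod I S) :
    ∃ M : (Spec (CommRingCat.of A)).Modules, Coh.IsCoh M ∧
      Nonempty (Formal.completion I M ≅ S ⋙ tilde.functor (CommRingCat.of A)) := by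
  obtain ⟨h1, h2, h3⟩ := finite_L I S hS
  exact ⟨_, isCoh_tilde _ (h := h1), ⟨completionLimIso I S h2 h3⟩⟩

/-- Over a complete ring, coherent formal systems on `Spec A` are completions. -/
theorem exists_completion_spec [IsNoetherianRing A] (I : Ideal A) [IsAdicComplete I A]
    (G : ℕᵒᵖ ⥤ (Spec (CommRingCat.of A)).Modules)
    (hG : @Formal.IsCohFormal A _ (Spec (CommRingCat.of A)) ⟨𝟙 (Spec (CommRingCat.of A))⟩ I G) :
    ∃ M : (Spec (CommRingCat.of A)).Modules, Coh.IsCoh M ∧ Nonempty (Formal.completion I M ≅ G) := by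
  obtain ⟨M, hM, ⟨e⟩⟩ := exists_completion_mod I _ (isAdicMod_sections hG)
  rw [isCohFormal_iff] at hG
  exact ⟨M, hM, ⟨e ≪≫ sectionsTildeIso G (fun n => (hG.1 n).1)⟩⟩

/-- Over a complete ring, an extendable system is a completion. -/
theorem exists_completion_of_extends [IsNoetherianRing A] (I : Ideal A) [IsAdicComplete I A]
    (G : ℕᵒᵖ ⥤ (U : Scheme.{u}).Modules)
    (h : @Algz.Extends A _ (Spec (CommRingCat.of A)) ⟨𝟙 (Spec (CommRingCat.of A))⟩ I U G) :
    ∃ F : (U : Scheme.{u}).Modules, Coh.IsCoh F ∧ Nonempty (Formal.completion I F ≅ G) := by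
  obtain ⟨G', hG', ⟨e⟩⟩ := h
  obtain ⟨M, hM, ⟨i⟩⟩ := exists_completion_spec I G' hG'
  refine ⟨(Scheme.Modules.restrictFunctor U.ι).obj M, Base.isCoh_restrict hM U, ⟨?_⟩⟩
  exact restrictCompletionIso U.ι (Category.comp_id _) I M ≪≫
    Functor.isoWhiskerRight i (Scheme.Modules.restrictFunctor U.ι) ≪≫ e

end Spec

end K573.Compl
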