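import Groth.Agent.Algz.K573.Canon

/-!
# The map `M~|_U → F_n`
-/

set_option autoImplicit false
universe u

open CategoryTheory CategoryTheory.Limits AlgebraicGeometry Opposite
open Groth.Agent.FormalB.ModPow Groth.Agent.FormalB.AdicSys K573.TildeSys K573.ModLim
open Groth.Agent.FormalB.PuncTheta Groth.Agent.FormalB.PuncTheta2

namespace K573.Epi

variable {A : Type u} [CommRing A] (U : (Spec (CommRingCat.of A)).Opens)

theorem symm_eq {M : ModuleCat.{u} A} {G : (U : Scheme.{u}).Modules} (p : M ⟶ (Gam U).obj G) :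
    ((Scheme.Modules.restrictAdjunction U.ι).homEquiv _ _).symm
      (((tilde.adjunction (R := CommRingCat.of A)).homEquiv M
        ((Scheme.Modules.pushforward U.ι).obj G)).symm p) =
      (Theta U).map p ≫ (adj U).counit.app G := by
  rw [Adjunction.homEquiv_counit, Adjunction.homEquiv_counit, Functor.map_comp, Category.assoc]
  have h : (adj U).counit.app G = (Scheme.Modules.restrictFunctor U.ι).map
      ((tilde.adjunction (R := CommRingCat.of A)).counit.app ((Scheme.Modules.pushforward U.ι).obj G)) ≫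
      (Scheme.Modules.restrictAdjunction U.ι).counit.app G := by
    rw [adj, Adjunction.comp_counit_app]
  rw [h]
  rfl

theorem epi_of_isML {I : Ideal A} (hU : IsCompact (U : Set (Spec (CommRingCat.of A))))
    (G : ℕᵒᵖ ⥤ (U : Scheme.{u}).Modules) (hG : Formal.IsCohFormal I G)
    (ha : ARSys.IsML (Algz.sectMod A U G)) (n : ℕ) :
    Epi ((Theta U).map (limit.π (Algz.sectMod A U G) (op n)) ≫ (adj U).counit.app (G.obj (op n))) := by
  rw [isCohFormal_iff] at hG
  obtain ⟨N, hN, hx⟩ := exists_of_isML _ ha n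
  let p : (limit (Algz.sectMod A U G) : ModuleCat.{u} A) ⟶ (Gam U).obj (G.obj (op n)) :=
    limit.π (Algz.sectMod A U G) (op n)
  have hiso : ∀ k : ℕ, IsIso ((adj U).counit.app (G.obj (op k))) := fun k =>
    isIso_counit U hU _ (hG.1 k).1
  have := hiso n
  have := hiso N
  have h1 : Epi ((Theta U).map ((Gam U).map (G.map (homOfLE hN).op))) := by
    have h2 := (adj U).counit.naturality (G.map (homOfLE hN).op)
    have h3 : Epi (G.map (homOfLE hN).op) := (hG.2.isModPow hN).epi
    have h4 : (Theta U).map ((Gam U).map (G.map (homOfLE hN).op)) =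
        ((adj U).counit.app (G.obj (op N)) ≫ G.map (homOfLE hN).op) ≫
          inv ((adj U).counit.app (G.obj (op n))) := by
      rw [IsIso.eq_comp_inv]
      exact h2
    rw [h4]
    exact epi_comp _ _
  have h2 : Epi (thetaMap U ((Gam U).map (G.map (homOfLE hN).op)).hom) := h1
  rw [epi_thetaMap_iff] at h2
  have h3 : Epi (thetaMap U p.hom) := by
    rw [epi_thetaMap_iff]
    intro g hg q
    obtain ⟨q, rfl⟩ := Submodule.Quotient.mk_surjective _ q
    obtain ⟨k, hk⟩ := h2 g hg (Submodule.Quotient.mk q)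
    refine ⟨k, ?_⟩
    rw [← Submodule.Quotient.mk_smul, Submodule.Quotient.mk_eq_zero] at hk ⊢
    obtain ⟨y, hy⟩ := hk
    obtain ⟨x, hx⟩ := hx y
    refine ⟨(limEquiv _).symm x, ?_⟩
    refine Eq.trans ?_ hy
    exact (limEquiv_symm_apply _ x n).trans hx
  have h4 : Epi ((Theta U).map p) := h3
  have h5 : Epi ((Theta U).map p ≫ (adj U).counit.app (G.obj (op n))) := epi_comp _ _
  exact h5

/-- `Theta` of a module is coherent as soon as there is a f.g. submodule with torsion quotient. -/
theorem isCoh_theta {Q : Type u} [AddCommGroup Q] [Module A Q] (N : Submodule A Q) (hN : N.FG)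
    (h : IsTorsOn U (Q ⧸ N)) : Coh.IsCoh ((Theta U).obj (ModuleCat.of A Q)) := by
  have h1 : IsIso ((Theta U).map (subHom (P := ModuleCat.of A Q) N)) :=
    isIso_theta_subHom U (P := ModuleCat.of A Q) N h
  have h2 : Module.Finite A N := Module.Finite.iff_fg.2 hN
  have h3 : Coh.IsCoh ((Theta U).obj (ModuleCat.of A N)) :=
    Base.isCoh_restrict (isCoh_tilde (ModuleCat.of A N)) U
  exact Base.isCoh_iso (asIso ((Theta U).map (subHom (P := ModuleCat.of A Q) N))) h3

/-- Coherence of `(L / I^(n+1) L)~|_U`. -/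
theorem isCoh_theta_quotPow [IsNoetherianRing A] {I : Ideal A}
    (hU : IsCompact (U : Set (Spec (CommRingCat.of A))))
    (G : ℕᵒᵖ ⥤ (U : Scheme.{u}).Modules) (hG : Formal.IsCohFormal I G) (L : Type u) [AddCommGroup L]
    [Module A L] (π : ∀ n : ℕ, L →ₗ[A] (Gam U).obj (G.obj (op n))) (n : ℕ)
    (hb : ∃ k : ℕ, LinearMap.ker (π k) ≤ I ^ (n + 1) • (⊤ : Submodule A L)) :
    Coh.IsCoh ((Theta U).obj (ModuleCat.of A (Formal2.quotPow A I L n))) := by
  obtain ⟨k, hk⟩ := hb
  obtain ⟨P, hP, hPt⟩ := exists_fg_isTorsOn U hU (G.obj (op k)) (hG.1 k)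
  -- `P ∩ range π`, pulled back to `L`, generated by finitely many elements modulo the kernel
  let R : Submodule A ((Gam U).obj (G.obj (op k))) := P ⊓ LinearMap.range (π k)
  have hR : R.FG := by
    have : IsNoetherian A P := isNoetherian_of_fg_of_noetherian P hP
    exact Submodule.FG.of_le_of_isNoetherian inf_le_left
  obtain ⟨s, hs⟩ := hR
  have hs' : ∀ y ∈ s, ∃ x : L, π k x = y := fun y hy => by
    have : y ∈ R := hs ▸ Submodule.subset_span hy
    exact this.2
  choose! f hf using hs'
  classical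
  let N : Submodule A (Formal2.quotPow A I L n) :=
    Submodule.span A ((s.image fun y => Formal2.quotPowπ A I L n (f y) : Finset _) : Set _)
  refine isCoh_theta U N ⟨_, rfl⟩ ?_
  -- lifting
  have key : ∀ y : (Gam U).obj (G.obj (op k)), y ∈ R → ∀ x : L, π k x = y → Formal2.quotPowπ A I L n x ∈ N := by
    intro y hy
    rw [← hs] at hy
    induction hy using Submodule.span_induction with
    | mem y hy =>
      intro x hx
      have h1 : x - f y ∈ LinearMap.ker (π k) := by
        rw [LinearMap.mem_ker, map_sub, hx, hf y hy, sub_self]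
      have h2 : Formal2.quotPowπ A I L n x = Formal2.quotPowπ A I L n (f y) := by
        rw [← sub_eq_zero, ← map_sub]
        exact (Submodule.Quotient.mk_eq_zero _).2 (hk h1)
      rw [h2]
      exact Submodule.subset_span (Finset.mem_coe.2 (Finset.mem_image_of_mem _ hy))
    | zero =>
      intro x hx
      have h2 : Formal2.quotPowπ A I L n x = 0 := (Submodule.Quotient.mk_eq_zero _).2 (hk hx)
      rw [h2]
      exact zero_mem _
    | add y z hy hz ihy ihz =>
      intro x hx
      have hyR : y ∈ R := hs ▸ hy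
      obtain ⟨x₁, hx₁⟩ := hyR.2
      have h1 := ihy x₁ hx₁
      have h2 := ihz (x - x₁) (by rw [map_sub, hx, hx₁]; abel)
      have h3 := add_mem h1 h2
      rwa [← map_add, add_sub_cancel] at h3
    | smul c y hy ih =>
      intro x hx
      have hyR : y ∈ R := hs ▸ hy
      obtain ⟨x₁, hx₁⟩ := hyR.2
      have h1 := Submodule.smul_mem N c (ih x₁ hx₁)
      have h2 : x - c • x₁ ∈ LinearMap.ker (π k) := by
        rw [LinearMap.mem_ker, map_sub, hx, map_smul, hx₁, sub_self]
      have h3 : Formal2.quotPowπ A I L n x = c • Formal2.quotPowπ A I L n x₁ := by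
        rw [← map_smul, ← sub_eq_zero, ← map_sub]
        exact (Submodule.Quotient.mk_eq_zero _).2 (hk h2)
      rwa [h3]
  intro g hg q
  obtain ⟨q, rfl⟩ := Submodule.Quotient.mk_surjective _ q
  obtain ⟨x, rfl⟩ := Submodule.mkQ_surjective _ q
  obtain ⟨j, hj⟩ := hPt g hg (Submodule.Quotient.mk (π k x))
  refine ⟨j, ?_⟩
  rw [← Submodule.Quotient.mk_smul, Submodule.Quotient.mk_eq_zero] at hj ⊢
  have h1 : g ^ j • π k x ∈ R := ⟨hj, g ^ j • x, map_smul _ _ _⟩
  exact key _ h1 (g ^ j • x) (map_smul _ _ _)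

end K573.Epi
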