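import Groth.Agent.Algz.K573.StrictHom
import Groth.Agent.Algz.K572.Hat

/-!
# Invariance of the strict inequalities under isomorphism of systems
-/

set_option autoImplicit false
universe u

open CategoryTheory CategoryTheory.Limits AlgebraicGeometry Opposite
open Groth.Agent.CycB.StalkExact

namespace K573.HatIso

variable {A : Type u} [CommRing A] {X : Scheme.{u}} [X.Over (Spec (CommRingCat.of A))] (I : Ideal A)
  {G G' : ℕᵒᵖ ⥤ X.Modules}

/-- The map on completed stalks. -/
noncomputable def hatMap (f : G ⟶ G') (y : X) :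
    Algz.hatStalk I G y →ₗ[Algz.hatRing I y] Algz.hatStalk I G' y where
  toFun x := ⟨fun n => AdicCompletion.map (Algz.stalkIdeal I y) (stalkLin (f.app (op n)) y) (x.1 n),
    fun n => by
      have h1 := x.2 n
      refine Eq.trans ?_ (congrArg
        (AdicCompletion.map (Algz.stalkIdeal I y) (stalkLin (f.app (op n)) y)) h1)
      change AdicCompletion.map (Algz.stalkIdeal I y) (stalkLin (G'.map (homOfLE (Nat.le_succ n)).op) y)
        (AdicCompletion.map (Algz.stalkIdeal I y) (stalkLin (f.app (op (n + 1))) y) (x.1 (n + 1))) =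
        AdicCompletion.map (Algz.stalkIdeal I y) (stalkLin (f.app (op n)) y)
          (AdicCompletion.map (Algz.stalkIdeal I y) (stalkLin (G.map (homOfLE (Nat.le_succ n)).op) y)
            (x.1 (n + 1)))
      rw [AdicCompletion.map_comp_apply, AdicCompletion.map_comp_apply, ← stalkLin_comp,
        ← stalkLin_comp, f.naturality]⟩
  map_add' x x' := by
    apply Subtype.ext
    funext n
    exact map_add _ (x.1 n) (x'.1 n)
  map_smul' c x := by
    apply Subtype.ext
    funext n
    exact map_smul (AdicCompletion.map (Algz.stalkIdeal I y) (stalkLin (f.app (op n)) y)) c (x.1 n)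

theorem hatMap_apply (f : G ⟶ G') (y : X) (x : Algz.hatStalk I G y) (n : ℕ) :
    (hatMap I f y x).1 n =
      AdicCompletion.map (Algz.stalkIdeal I y) (stalkLin (f.app (op n)) y) (x.1 n) := rfl

theorem hatMap_hatMap (e : G ≅ G') (y : X) (x : Algz.hatStalk I G y) :
    hatMap I e.inv y (hatMap I e.hom y x) = x := by
  apply Subtype.ext
  funext n
  rw [hatMap_apply, hatMap_apply, AdicCompletion.map_comp_apply, ← stalkLin_comp,
    ← NatTrans.comp_app, e.hom_inv_id, NatTrans.id_app, stalkLin_id, AdicCompletion.map_id]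
  rfl

/-- The isomorphism on completed stalks. -/
noncomputable def hatEquiv (e : G ≅ G') (y : X) :
    Algz.hatStalk I G y ≃ₗ[Algz.hatRing I y] Algz.hatStalk I G' y :=
  { hatMap I e.hom y with
    invFun := hatMap I e.inv y
    left_inv := hatMap_hatMap I e y
    right_inv := hatMap_hatMap I e.symm y }

theorem strictAbIneq_iso {I : Ideal A} {U : (Spec (CommRingCat.of A)).Opens}
    {G G' : ℕᵒᵖ ⥤ (U : Scheme.{u}).Modules} (e : G ≅ G') {a b : ℕ}
    (h : Algz.StrictAbIneq A I U G' a b) : Algz.StrictAbIneq A I U G a b :=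
  fun y hy => StrictMod.strictAt_congr (hatEquiv I e y) (h y hy)

theorem abIneq_iso {I : Ideal A} {U : (Spec (CommRingCat.of A)).Opens}
    {G G' : ℕᵒᵖ ⥤ (U : Scheme.{u}).Modules} (e : G ≅ G') {a b : ℕ}
    (h : Algz.AbIneq A I U G' a b) : Algz.AbIneq A I U G a b := by
  intro y hy p hp
  rw [StrictMod.depthAt_congr (hatEquiv I e y) p]
  exact h y hy p hp

end K573.HatIso
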