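import Groth.Agent.Algz.K573.StrictMod
import Groth.Agent.S0814
import Groth.Agent.S0377
import Groth.Agent.FormalA.GfDepthA
import Groth.Agent.Sga2.AvoidCov
import Groth.Agent.Ega3B.IdemLift
import Groth.Agent.Ega4B.DepthFinite

/-!
# Primes with depth zero under the strict `(1, 1 + d)`-inequalities

`Key I 𝔞 M d` is what the strict inequalities say about the primes of `A`; the rest is commutative
algebra.
-/

set_option autoImplicit false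
universe u

open CategoryTheory CategoryTheory.Limits AlgebraicGeometry Opposite
attribute [local instance] HasDerivedCategory.standard
open Groth.Agent Groth.Agent.FormalB.PuncTheta Groth.Agent.Ega4B.CatHeight IsLocalRing

namespace K573.StrictConn

variable {A : Type u} [CommRing A] [IsNoetherianRing A]

/-- What the strict `(1, 1 + d)`-inequalities give for primes of depth zero. -/
def Key (I 𝔞 : Ideal A) (M : Type u) [AddCommGroup M] [Module A M] (d : ℕ) : Prop :=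
  ∀ p q z : PrimeSpectrum A, p ≤ q → ¬ I ≤ p.asIdeal → I ≤ q.asIdeal → ¬ 𝔞 ≤ q.asIdeal →
    q ⋖ z → 𝔞 ≤ z.asIdeal → Algz.depthAt p M = 0 → ((d + 1 : ℕ) : ℕ∞) < rlen p z

theorem key_of_strict (hω : ∃ ω : Dual.D A, Dual.IsDualizing A ω) (I 𝔞 : Ideal A)
    (F : (↑(LocCoh.puncturedOpen A 𝔞) : Scheme.{u}).Modules) (hF : Coh.IsCoh F)
    {M : Type u} [AddCommGroup M] [Module A M]
    (e : (Theta (LocCoh.puncturedOpen A 𝔞)).obj (ModuleCat.of A M) ≅ F) (d : ℕ)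
    (h : Algz.StrictAbIneq A I (LocCoh.puncturedOpen A 𝔞) (Formal.completion I F) 1 (1 + d)) :
    Key I 𝔞 M d := by
  intro p q z hpq hp hq hq𝔞 hqz hz hd
  exact K573.StrictMod.lt_rlen hω I _ F hF e d h hpq hp hq hq𝔞 hqz (fun h' => h' hz) hd

/-- Immediate generizations outside a closed subset. -/
theorem exists_gen (𝔞 : Ideal A) {w z : PrimeSpectrum A} (hwz : w ≤ z) (hw : ¬ 𝔞 ≤ w.asIdeal)
    (hz : 𝔞 ≤ z.asIdeal) : ∃ y, w ≤ y ∧ y ⋖ z ∧ ¬ 𝔞 ≤ y.asIdeal := by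
  obtain ⟨f, hf, hfw⟩ := Set.not_subset.1 hw
  obtain ⟨y, h1, h2, h3⟩ := Sga2.AvoidCov.exists_covBy A f w z hwz hfw (hz hf)
  exact ⟨y, h1, h2, fun h => h3 (h hf)⟩

variable {I 𝔞 : Ideal A} {M : Type u} [AddCommGroup M] [Module A M] {d : ℕ}

/-- the estimate for points above a point of `V(p) ∩ V(I)` outside `V(𝔞)` -/
theorem Key.lt_of_le (hK : Key I 𝔞 M d) {p w z : PrimeSpectrum A} (hpw : p ≤ w)
    (hp : ¬ I ≤ p.asIdeal) (hw : I ≤ w.asIdeal) (hw𝔞 : ¬ 𝔞 ≤ w.asIdeal) (hwz : w ≤ z)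
    (hz : 𝔞 ≤ z.asIdeal) (hd : Algz.depthAt p M = 0) : ((d + 1 : ℕ) : ℕ∞) < rlen p z := by
  obtain ⟨y, h1, h2, h3⟩ := exists_gen 𝔞 hwz hw𝔞 hz
  exact hK p y z (hpw.trans h1) hp (hw.trans h1) h3 h2 hz hd

theorem conn [IsAdicComplete I A] (hω : ∃ ω : Dual.D A, Dual.IsDualizing A ω)
    (hcd : LocCoh.CdLE A I d) (hK : Key I 𝔞 M d) {p : PrimeSpectrum A}
    (hp : ¬ I ≤ p.asIdeal) (hd : Algz.depthAt p M = 0) {z₁ z₂ : PrimeSpectrum A}
    (h1 : z₁.asIdeal ∈ (p.asIdeal ⊔ I).minimalPrimes)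
    (h2 : z₂.asIdeal ∈ (p.asIdeal ⊔ I).minimalPrimes) (h1𝔞 : 𝔞 ≤ z₁.asIdeal)
    (h2𝔞 : ¬ 𝔞 ≤ z₂.asIdeal) : False := by
  classical
  -- the two groups of components
  let b₁ : Ideal A := sInf {z | z ∈ (p.asIdeal ⊔ I).minimalPrimes ∧ 𝔞 ≤ z}
  let b₂ : Ideal A := sInf {z | z ∈ (p.asIdeal ⊔ I).minimalPrimes ∧ ¬ 𝔞 ≤ z}
  have hfin : (p.asIdeal ⊔ I).minimalPrimes.Finite :=
    Ideal.finite_minimalPrimes_of_isNoetherianRing A _
  have hprime : ∀ (S : Set (Ideal A)), S ⊆ (p.asIdeal ⊔ I).minimalPrimes → ∀ q : Ideal A,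
      q.IsPrime → sInf S ≤ q → ∃ z ∈ S, z ≤ q := by
    intro S hS q hq hle
    have hfS : S.Finite := hfin.subset hS
    rw [← hfS.coe_toFinset, ← Finset.inf_id_eq_sInf] at hle
    obtain ⟨i, hi, hiq⟩ := (Ideal.IsPrime.inf_le' hq).1 hle
    exact ⟨i, hfS.mem_toFinset.1 hi, hiq⟩
  have hIb : ∀ (S : Set (Ideal A)), S ⊆ (p.asIdeal ⊔ I).minimalPrimes →
      p.asIdeal ⊔ I ≤ sInf S := fun S hS => le_sInf fun z hz => (hS hz).1.2
  have hS1 : {z | z ∈ (p.asIdeal ⊔ I).minimalPrimes ∧ 𝔞 ≤ z} ⊆ (p.asIdeal ⊔ I).minimalPrimes :=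
    fun z hz => hz.1
  have hS2 : {z | z ∈ (p.asIdeal ⊔ I).minimalPrimes ∧ ¬ 𝔞 ≤ z} ⊆ (p.asIdeal ⊔ I).minimalPrimes :=
    fun z hz => hz.1
  let b : Ideal A := b₁ ⊔ b₂
  let B : Type u := A ⧸ p.asIdeal
  let π : A →+* B := Ideal.Quotient.mk p.asIdeal
  have hπ : Function.Surjective π := Ideal.Quotient.mk_surjective
  have hcomp : IsAdicComplete (I.map π) B := Ega3B.IdemLift.isAdicComplete_map A B I
  have hcdB : LocCoh.CdLE B (I.map π) d := Localalg.LCRows.cdLE_map (B := B) I d hcd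
  have hωB : ∃ ω : Dual.D B, Dual.IsDualizing B ω := Groth.Agent.S0377.HasDual.of_finite (A := A) hω
  have hlow : ∀ q : PrimeSpectrum A, b ≤ q.asIdeal → ((d + 1 : ℕ) : ℕ∞) < rlen p q := by
    intro q hbq
    obtain ⟨w₁, hw₁, hw₁q⟩ := hprime _ hS1 q.asIdeal q.2 (le_sup_left.trans hbq)
    obtain ⟨w₂, hw₂, hw₂q⟩ := hprime _ hS2 q.asIdeal q.2 (le_sup_right.trans hbq)
    have hw₂p : w₂.IsPrime := hw₂.1.1.1
    exact hK.lt_of_le (w := ⟨w₂, hw₂p⟩) (z := q) (le_sup_left.trans hw₂.1.1.2) hp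
      (le_sup_right.trans hw₂.1.1.2) hw₂.2 hw₂q (hw₁.2.trans hw₁q) hd
  have key := Groth.Agent.S0814.result B (I.map π) (b.map π)
    (Ideal.map_mono ((le_sup_right.trans (hIb _ hS1)).trans le_sup_left)) hωB d hcdB (by
      intro P hP hIP Q hQ hPQ hbQ
      have hP0 : P = ⊥ := by
        have := hP
        rw [IsDomain.minimalPrimes_eq_singleton_bot] at this
        exact this
      subst hP0
      have : (⊥ : Ideal B).IsPrime := Ideal.isPrime_bot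
      rw [FormalA.GfDepth.dimBetween_eq_rlen (⊥ : Ideal B) Q bot_le, height_eq_rlen_bot,
        ← rlen_comap_eq_height hπ p Ideal.mk_ker ⟨Q, hQ⟩]
      exact_mod_cast hlow (PrimeSpectrum.comap π ⟨Q, hQ⟩) (Ideal.map_le_iff_le_comap.1 hbQ)) (by
      intro V hV hne _
      exact ⟨hne, (PreirreducibleSpace.isPreirreducible_univ.open_subset hV
        (Set.subset_univ _)).isPreconnected⟩)
  rw [isPreconnected_closed_iff] at key
  have hzl : ∀ (z : PrimeSpectrum A) (hz : p.asIdeal ≤ z.asIdeal) (J : Ideal A),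
      (⟨z.asIdeal.map π, Ideal.map_isPrime_of_surjective hπ (by
        rw [Ideal.mk_ker]; exact hz)⟩ : PrimeSpectrum B) ∈
        PrimeSpectrum.zeroLocus (R := B) (J.map π) ↔ J ≤ z.asIdeal := by
    intro z hz J
    change J.map π ≤ z.asIdeal.map π ↔ _
    rw [Ideal.map_le_iff_le_comap, Ideal.comap_map_of_surjective π hπ, ← RingHom.ker_eq_comap_bot,
      Ideal.mk_ker, sup_eq_left.2 hz]
  have hz₁ : p.asIdeal ≤ z₁.asIdeal := le_sup_left.trans h1.1.2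
  have hz₂ : p.asIdeal ≤ z₂.asIdeal := le_sup_left.trans h2.1.2
  have hnot1 : ¬ b₂ ≤ z₁.asIdeal := by
    intro hle
    obtain ⟨w, hw, hwz⟩ := hprime _ hS2 _ z₁.2 hle
    exact hw.2 (h1𝔞.trans (h1.2 ⟨hw.1.1.1, hw.1.1.2⟩ hwz))
  have hnot2 : ¬ b₁ ≤ z₂.asIdeal := by
    intro hle
    obtain ⟨w, hw, hwz⟩ := hprime _ hS1 _ z₂.2 hle
    exact h2𝔞 (hw.2.trans hwz)
  obtain ⟨x, hx, hx1, hx2⟩ := key (PrimeSpectrum.zeroLocus (R := B) (b₁.map π))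
    (PrimeSpectrum.zeroLocus (R := B) (b₂.map π)) (PrimeSpectrum.isClosed_zeroLocus _)
    (PrimeSpectrum.isClosed_zeroLocus _) (by
      rintro Q ⟨hQ, -⟩
      have hIQ : I ≤ Q.asIdeal.comap π := Ideal.map_le_iff_le_comap.1 hQ
      have hpQ : p.asIdeal ≤ Q.asIdeal.comap π :=
        (Ideal.mk_ker (I := p.asIdeal)).symm.le.trans (Ideal.ker_le_comap π)
      obtain ⟨w, hw, hwQ⟩ := Ideal.exists_minimalPrimes_le (sup_le hpQ hIQ)
      by_cases hw𝔞 : 𝔞 ≤ w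
      · left
        have h : b₁ ≤ w := sInf_le ⟨hw, hw𝔞⟩
        exact Ideal.map_le_iff_le_comap.2 (h.trans hwQ)
      · right
        have h : b₂ ≤ w := sInf_le ⟨hw, hw𝔞⟩
        exact Ideal.map_le_iff_le_comap.2 (h.trans hwQ))
    ⟨_, ⟨(hzl z₁ hz₁ I).2 (le_sup_right.trans h1.1.2), fun h' => hnot1
      (le_sup_right.trans ((hzl z₁ hz₁ b).1 h'))⟩, (hzl z₁ hz₁ b₁).2 (sInf_le ⟨h1, h1𝔞⟩)⟩
    ⟨_, ⟨(hzl z₂ hz₂ I).2 (le_sup_right.trans h2.1.2), fun h' => hnot2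
      (le_sup_left.trans ((hzl z₂ hz₂ b).1 h'))⟩, (hzl z₂ hz₂ b₂).2 (sInf_le ⟨h2, h2𝔞⟩)⟩
  refine hx.2 ?_
  change b.map π ≤ x.asIdeal
  rw [Ideal.map_sup]
  exact sup_le hx1 hx2

/-- Under the strict inequalities all points of `V(p) ∩ V(𝔞)` are far from `p`. -/
theorem lt_rlen [IsAdicComplete I A] (hI𝔞 : I ≤ 𝔞) (hω : ∃ ω : Dual.D A, Dual.IsDualizing A ω)
    (hcd : LocCoh.CdLE A I d) (hK : Key I 𝔞 M d) {p : PrimeSpectrum A}
    (hp : ¬ I ≤ p.asIdeal) (hd : Algz.depthAt p M = 0) {r : PrimeSpectrum A} (hpr : p ≤ r)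
    (hIr : I ≤ r.asIdeal) (hr : ¬ 𝔞 ≤ r.asIdeal) {q : PrimeSpectrum A} (hpq : p ≤ q)
    (hq : 𝔞 ≤ q.asIdeal) : ((d + 1 : ℕ) : ℕ∞) < rlen p q := by
  obtain ⟨w, hw, hwq⟩ := Ideal.exists_minimalPrimes_le
    (sup_le (show p.asIdeal ≤ q.asIdeal from hpq) (hI𝔞.trans hq))
  obtain ⟨w', hw', hwr⟩ := Ideal.exists_minimalPrimes_le
    (sup_le (show p.asIdeal ≤ r.asIdeal from hpr) hIr)
  by_cases hw𝔞 : 𝔞 ≤ w
  · exact (conn (z₁ := ⟨w, hw.1.1⟩) (z₂ := ⟨w', hw'.1.1⟩) hω hcd hK hp hd hw hw' hw𝔞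
      (fun h => hr (h.trans hwr))).elim
  · exact hK.lt_of_le (w := ⟨w, hw.1.1⟩) (le_sup_left.trans hw.1.2) hp
      (le_sup_right.trans hw.1.2) hw𝔞 hwq hq hd

end K573.StrictConn
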