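import Groth.Agent.Algz.K573.StrictComp
import Groth.Agent.S0805
import Groth.Agent.Formal2.K575.FFBridge

/-!
# Sections of modules satisfying the strict inequalities
-/

set_option autoImplicit false
universe u

open CategoryTheory CategoryTheory.Limits AlgebraicGeometry Opposite
attribute [local instance] HasDerivedCategory.standard
open Groth.Agent Groth.Agent.FormalB.PuncTheta Groth.Agent.Ega4B.CatHeight IsLocalRing
open K573.StalkBridge Groth.Agent.CohqB.LimZero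

namespace K573.StrictSec

variable {A : Type u} [CommRing A] [IsNoetherianRing A]

/-- depth `≥ 2` at the points whose closure meets `V(I)` only inside `V(𝔞)` -/
def DepthTwo (I 𝔞 : Ideal A) (F : (↑(LocCoh.puncturedOpen A 𝔞) : Scheme.{u}).Modules) : Prop :=
  ∀ x : (↑(LocCoh.puncturedOpen A 𝔞) : Scheme.{u}),
    (∀ r : ↥(Spec (CommRingCat.of A)), (LocCoh.puncturedOpen A 𝔞).ι.base x ⤳ r →
      r ∈ PrimeSpectrum.zeroLocus (R := A) ↑I → r ∉ (LocCoh.puncturedOpen A 𝔞)) →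
    (2 : ℕ∞) ≤ LocCoh.depth ((↑(LocCoh.puncturedOpen A 𝔞) : Scheme.{u}).presheaf.stalk x)
      (F.presheaf.stalk x)

theorem depthTwo_iff (I 𝔞 : Ideal A) (F : (↑(LocCoh.puncturedOpen A 𝔞) : Scheme.{u}).Modules)
    {M : Type u} [AddCommGroup M] [Module A M]
    (e : (Theta (LocCoh.puncturedOpen A 𝔞)).obj (ModuleCat.of A M) ≅ F) :
    DepthTwo I 𝔞 F ↔ ∀ p : PrimeSpectrum A, ¬ 𝔞 ≤ p.asIdeal →
      (∀ r : PrimeSpectrum A, p ≤ r → I ≤ r.asIdeal → 𝔞 ≤ r.asIdeal) → 2 ≤ Algz.depthAt p M := by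
  constructor
  · intro h p hp hr
    have h1 := h ⟨p, hp⟩ (fun r hpr hIr hr' => hr' (hr r ((PrimeSpectrum.le_iff_specializes p r).2 hpr) hIr))
    rw [depth_stalk _ _ e] at h1
    exact h1
  · intro h x hx
    rw [depth_stalk _ x e]
    refine h (pt _ x) x.2 fun r hpr hIr => ?_
    by_contra hr
    exact hx r ((PrimeSpectrum.le_iff_specializes (pt _ x) r).1 hpr) hIr hr

/-- The sections of `F` over the punctured spectrum are complete. -/
theorem secComplete_of_strict (I 𝔞 : Ideal A) (hI𝔞 : I ≤ 𝔞)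
    (F : (↑(LocCoh.puncturedOpen A 𝔞) : Scheme.{u}).Modules) (hF : Coh.IsCoh F)
    [IsAdicComplete I A] (hω : ∃ ω : Dual.D A, Dual.IsDualizing A ω) (d : ℕ)
    (hcd : LocCoh.CdLE A I d)
    (h₂ : Algz.StrictAbIneq A I (LocCoh.puncturedOpen A 𝔞) (Formal.completion I F) 1 (1 + d))
    (h₃ : DepthTwo I 𝔞 F) : SecComplete I F := by
  obtain ⟨M, i1, i2, hMf, ⟨e⟩⟩ := K573.StrictComp.exists_mod _ F hF
  have hK := K573.StrictConn.key_of_strict hω I 𝔞 F hF e d h₂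
  rw [depthTwo_iff I 𝔞 F e] at h₃
  have h := Groth.Agent.S0805.result A I 𝔞 hI𝔞 hω d hcd M (by
    rintro p hp h𝔞p hIp ⟨r, hr, hpr, hIr, h𝔞r⟩ q hq hpq h𝔞q
    have hpp : p.IsPrime := IsAssociatedPrime.isPrime hp
    rw [FormalA.GfDepth.dimBetween_eq_rlen p q hpq]
    have hd : Algz.depthAt (⟨p, hpp⟩ : PrimeSpectrum A) M = 0 := by
      by_contra h
      exact (Groth.Agent.Ega4B.DepthFinite.one_le_depth_atPrime_iff p M).1
        (ENat.one_le_iff_ne_zero.2 h) hp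
    exact_mod_cast K573.StrictConn.lt_rlen hI𝔞 hω hcd hK (p := ⟨p, hpp⟩) (q := ⟨q, hq⟩)
      (r := ⟨r, hr⟩) hIp hd hpr hIr h𝔞r hpq h𝔞q) (by
    intro p hp h𝔞p hr
    exact h₃ ⟨p, hp⟩ h𝔞p fun r hpr hIr => hr r.asIdeal r.2 hpr hIr)
  exact (K575.FFBridge.secComplete_theta I M _ h).of_iso e

end K573.StrictSec
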