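import Groth.Agent.Algz.K573.BaseRing
import Groth.Agent.Algz.K573.Compl
import Groth.Agent.S0836
import Groth.Agent.FormalB.AdicNoeth
import Mathlib.RingTheory.AdicCompletion.LocalRing

/-!
# Formal systems and base change `A → A'` which is an isomorphism modulo `I`
-/

set_option autoImplicit false
universe u

open CategoryTheory CategoryTheory.Limits AlgebraicGeometry Opposite
open Groth.Agent.FormalB.ModPow

namespace K573.EquivBC

section Ring

variable {A A' : Type u} [CommRing A] [CommRing A'] [Algebra A A'] (K : Ideal A)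

/-- `A → A'` is an isomorphism modulo `K`. -/
structure IsoMod : Prop where
  surj : ∀ a' : A', ∃ a : A, a' - algebraMap A A' a ∈ K.map (algebraMap A A')
  inj : ∀ a : A, algebraMap A A' a ∈ K.map (algebraMap A A') → a ∈ K

variable {K}

/-- The quotient map `A' → A / K`. -/
noncomputable def χ (h : IsoMod (A' := A') K) : A' →+* A ⧸ K :=
  (RingEquiv.ofBijective (Ideal.quotientMap (K.map (algebraMap A A')) (algebraMap A A')
    Ideal.le_comap_map) ⟨by
      rw [injective_iff_map_eq_zero]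
      intro x hx
      obtain ⟨x, rfl⟩ := Ideal.Quotient.mk_surjective x
      rw [Ideal.quotientMap_mk, Ideal.Quotient.eq_zero_iff_mem] at hx
      exact Ideal.Quotient.eq_zero_iff_mem.2 (h.inj x hx), by
      intro y
      obtain ⟨y, rfl⟩ := Ideal.Quotient.mk_surjective y
      obtain ⟨a, ha⟩ := h.surj y
      refine ⟨Ideal.Quotient.mk _ a, ?_⟩
      rw [Ideal.quotientMap_mk, eq_comm, Ideal.Quotient.eq]
      exact ha⟩ : (A ⧸ K) ≃+* (A' ⧸ K.map (algebraMap A A'))).symm.toRingHom.comp
        (Ideal.Quotient.mk (K.map (algebraMap A A')))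

theorem χ_algebraMap (h : IsoMod (A' := A') K) (a : A) : χ h (algebraMap A A' a) = Ideal.Quotient.mk K a := by
  unfold χ
  rw [RingHom.comp_apply]
  change RingEquiv.symm _ _ = _
  rw [RingEquiv.symm_apply_eq]
  exact (Ideal.quotientMap_mk (I := K.map (algebraMap A A')) (f := algebraMap A A')
    (H := Ideal.le_comap_map) (x := a)).symm

theorem χ_eq_zero (h : IsoMod (A' := A') K) (a : A') (ha : a ∈ K.map (algebraMap A A')) : χ h a = 0 := by
  unfold χ
  rw [RingHom.comp_apply, Ideal.Quotient.eq_zero_iff_mem.2 ha, map_zero]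

theorem isPushout_χ (h : IsoMod (A' := A') K) :
    IsPushout (CommRingCat.ofHom (algebraMap A A')) (CommRingCat.ofHom (Ideal.Quotient.mk K))
      (CommRingCat.ofHom (χ h)) (𝟙 (CommRingCat.of (A ⧸ K))) := by
  have w : CommRingCat.ofHom (algebraMap A A') ≫ CommRingCat.ofHom (χ h) =
      CommRingCat.ofHom (Ideal.Quotient.mk K) ≫ 𝟙 (CommRingCat.of (A ⧸ K)) := by
    ext a
    exact χ_algebraMap h a
  refine IsPushout.of_isColimit' ⟨w⟩ (PushoutCocone.IsColimit.mk _ (fun s => s.inr) (fun s => ?_)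
    (fun s => Category.id_comp _) (fun s m h1 h2 => ?_))
  · ext a'
    have hc : ∀ a : A, s.inl.hom (algebraMap A A' a) = s.inr.hom (Ideal.Quotient.mk K a) := fun a =>
      congr(($(s.condition)).hom a)
    have hk : ∀ b ∈ K.map (algebraMap A A'), s.inl.hom b = 0 := by
      intro b hb
      have : K.map (algebraMap A A') ≤ RingHom.ker s.inl.hom := by
        rw [Ideal.map_le_iff_le_comap]
        intro a ha
        change s.inl.hom (algebraMap A A' a) = 0
        rw [hc, Ideal.Quotient.eq_zero_iff_mem.2 ha, map_zero]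
      exact this hb
    obtain ⟨a, ha⟩ := h.surj a'
    have e1 : a' = algebraMap A A' a + (a' - algebraMap A A' a) := by ring
    change s.inr.hom (χ h a') = s.inl.hom a'
    rw [e1, map_add, χ_eq_zero h _ ha, add_zero, χ_algebraMap, map_add, hk _ ha, add_zero, hc]
  · rw [← h2]
    exact (Category.id_comp _).symm

theorem isIso_snd (h : IsoMod (A' := A') K) :
    IsIso (pullback.snd (Spec.map (CommRingCat.ofHom (algebraMap A A')))
      (Spec.map (CommRingCat.ofHom (Ideal.Quotient.mk K)))) := by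
  have h1 := isPullback_SpecMap_of_isPushout _ _ _ _ (isPushout_χ h)
  have h2 := h1.isoPullback_hom_snd
  have h3 : IsIso (Spec.map (𝟙 (CommRingCat.of (A ⧸ K)))) := by
    rw [Spec.map_id]; infer_instance
  rw [← h2] at h3
  exact IsIso.of_isIso_comp_left h1.isoPullback.hom _

theorem isoMod_pow (I : Ideal A) (h : IsoMod (A' := A') I) : IsoMod (A' := A') (I ^ (0 + 1)) := by
  rw [zero_add, pow_one]
  exact h

theorem isoMod_adicCompletion (I : Ideal A) (hI : I.FG) : IsoMod (A' := AdicCompletion I A) I := by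
  have h1 := AdicCompletion.ker_evalOneₐ_eq_map (I := I) hI
  have h2 : ∀ a : A, AdicCompletion.evalOneₐ I (algebraMap A (AdicCompletion I A) a) =
      Ideal.Quotient.mk I a := fun a => (AdicCompletion.evalOneₐ I).commutes a
  refine ⟨fun a' => ?_, fun a ha => ?_⟩
  · obtain ⟨a, ha⟩ := Ideal.Quotient.mk_surjective (AdicCompletion.evalOneₐ I a')
    refine ⟨a, ?_⟩
    rw [← h1, RingHom.mem_ker]
    change AdicCompletion.evalOneₐ I (a' - algebraMap A (AdicCompletion I A) a) = 0
    rw [map_sub, h2, ha, sub_self]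
  · rw [← h1, RingHom.mem_ker] at ha
    change AdicCompletion.evalOneₐ I (algebraMap A (AdicCompletion I A) a) = 0 at ha
    rw [h2, Ideal.Quotient.eq_zero_iff_mem] at ha
    exact ha

end Ring

section Geom

variable {A A' : Type u} [CommRing A] [CommRing A'] [Algebra A A'] {I : Ideal A}

theorem isIso_pullbackMap (h : IsoMod (A' := A') I) {X X' : Scheme.{u}} (f : X' ⟶ X)
    (b : X ⟶ Spec (CommRingCat.of A)) (b' : X' ⟶ Spec (CommRingCat.of A'))
    (hp : IsPullback b' f (Spec.map (CommRingCat.ofHom (algebraMap A A'))) b)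
    (c : X' ⟶ Spec (CommRingCat.of A)) (hf : f ≫ b = c) :
    IsIso (pullback.map c (CohB1.specQuot I 0) b (CohB1.specQuot I 0) f (𝟙 _) (𝟙 _)
      ((Category.comp_id _).trans hf.symm) ((Category.comp_id _).trans (Category.id_comp _).symm)) := by
  subst hf
  set q := CohB1.specQuot I 0
  set s := Spec.map (CommRingCat.ofHom (algebraMap A A'))
  set m := pullback.map (f ≫ b) q b q f (𝟙 _) (𝟙 _) ((Category.comp_id _).trans rfl)
    ((Category.comp_id _).trans (Category.id_comp _).symm)
  have e1 : IsPullback (pullback.snd (f ≫ b) q) (pullback.fst (f ≫ b) q) q (f ≫ b) :=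
    (IsPullback.of_hasPullback (f ≫ b) q).flip
  have e2 : IsPullback (pullback.snd b q) (pullback.fst b q) q b :=
    (IsPullback.of_hasPullback b q).flip
  have e3 : m ≫ pullback.snd b q = pullback.snd (f ≫ b) q :=
    (pullback.lift_snd _ _ _).trans (Category.comp_id _)
  have e4 : m ≫ pullback.fst b q = pullback.fst (f ≫ b) q ≫ f := pullback.lift_fst _ _ _
  rw [← e3] at e1
  have e5 : IsPullback m (pullback.fst (f ≫ b) q) (pullback.fst b q) f := e1.of_right e4 e2
  have e6 : IsPullback (pullback.fst (f ≫ b) q ≫ b') m s (pullback.fst b q ≫ b) :=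
    e5.flip.paste_horiz hp
  rw [pullback.condition] at e6
  have e7 : IsPullback _ m (pullback.snd s q) (pullback.snd b q) :=
    e6.of_right' (IsPullback.of_hasPullback s q)
  have : IsIso (pullback.snd s q) := isIso_snd (isoMod_pow I h)
  exact e7.isIso_snd_of_isIso

/-- Equivalence of formal systems along a flat base change which is an isomorphism modulo `I`. -/
theorem equiv_of_isPullback (h : IsoMod (A' := A') I) [Module.Flat A A'] {X X' : Scheme.{u}}
    [X.Over (Spec (CommRingCat.of A))] [X'.Over (Spec (CommRingCat.of A'))] [IsNoetherian X]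
    [IsNoetherian X'] (f : X' ⟶ X)
    (hp : IsPullback (X' ↘ Spec (CommRingCat.of A')) f (Spec.map (CommRingCat.ofHom (algebraMap A A')))
      (X ↘ Spec (CommRingCat.of A))) :
    (∀ G₁ G₂ : ℕᵒᵖ ⥤ X.Modules, Formal.IsCohFormal I G₁ → Formal.IsCohFormal I G₂ →
      Function.Bijective (fun φ : G₁ ⟶ G₂ => Functor.whiskerRight φ (Scheme.Modules.pullback f))) ∧
    (∀ G' : ℕᵒᵖ ⥤ X'.Modules, Formal.IsCohFormal (I.map (algebraMap A A')) G' →
      ∃ G : ℕᵒᵖ ⥤ X.Modules, Formal.IsCohFormal I G ∧ Nonempty (G ⋙ Scheme.Modules.pullback f ≅ G')) ∧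
    (∀ G : ℕᵒᵖ ⥤ X.Modules, Formal.IsCohFormal I G →
      Formal.IsCohFormal (I.map (algebraMap A A')) (G ⋙ Scheme.Modules.pullback f)) := by
  letI : X'.Over (Spec (CommRingCat.of A)) :=
    ⟨(X' ↘ Spec (CommRingCat.of A')) ≫ Spec.map (CommRingCat.ofHom (algebraMap A A'))⟩
  have hc : BaseRing.Compat A A' X' := rfl
  have hf : f ≫ (X ↘ Spec (CommRingCat.of A)) = X' ↘ Spec (CommRingCat.of A) := hp.w.symm
  have : Flat f := by
    have h1 : Flat (Spec.map (CommRingCat.ofHom (algebraMap A A'))) := by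
      rw [Flat.SpecMap_iff]
      exact RingHom.flat_algebraMap_iff.2 inferInstance
    exact MorphismProperty.of_isPullback hp h1
  obtain ⟨h1, h2⟩ := Groth.Agent.S0836.result A I X X' f hf (isIso_pullbackMap h f _ _ hp _ hf)
  refine ⟨h1, fun G' hG' => h2 G' ?_, fun G hG => ?_⟩
  · rw [BaseRing.isCohFormal_iff_map hc]
    exact hG'
  · rw [← BaseRing.isCohFormal_iff_map hc]
    rw [isCohFormal_iff] at hG ⊢
    exact ⟨fun n => Groth.Agent.FormalB.PullCoh.isCoh_pullback f (hG.1 n),
      Groth.Agent.FormalB.PullSys.pullback_isFormal f hf hG.2⟩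

/-- Restriction and pullback. -/
noncomputable def restrictPullbackIso {X Y : Scheme.{u}} (f : X ⟶ Y) (U : Y.Opens) :
    Scheme.Modules.pullback f ⋙ Scheme.Modules.restrictFunctor (f ⁻¹ᵁ U).ι ≅
      Scheme.Modules.restrictFunctor U.ι ⋙ Scheme.Modules.pullback (f ∣_ U) :=
  Functor.isoWhiskerLeft (Scheme.Modules.pullback f)
      (Scheme.Modules.restrictFunctorIsoPullback (f ⁻¹ᵁ U).ι) ≪≫
    Scheme.Modules.pullbackComp (f ⁻¹ᵁ U).ι f ≪≫
    Scheme.Modules.pullbackCongr (morphismRestrict_ι f U).symm ≪≫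
    (Scheme.Modules.pullbackComp (f ∣_ U) U.ι).symm ≪≫
    Functor.isoWhiskerRight (Scheme.Modules.restrictFunctorIsoPullback U.ι).symm
      (Scheme.Modules.pullback (f ∣_ U))

/-- A bijection on Homs reflects isomorphisms of systems. -/
theorem nonempty_iso_of_bijective {X X' : Scheme.{u}} (g : X' ⟶ X) (P : (ℕᵒᵖ ⥤ X.Modules) → Prop)
    (h : ∀ G₁ G₂ : ℕᵒᵖ ⥤ X.Modules, P G₁ → P G₂ →
      Function.Bijective (fun φ : G₁ ⟶ G₂ => Functor.whiskerRight φ (Scheme.Modules.pullback g)))
    {G₁ G₂ : ℕᵒᵖ ⥤ X.Modules} (h₁ : P G₁) (h₂ : P G₂)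
    (e : G₁ ⋙ Scheme.Modules.pullback g ≅ G₂ ⋙ Scheme.Modules.pullback g) : Nonempty (G₁ ≅ G₂) := by
  obtain ⟨φ, hφ⟩ := (h G₁ G₂ h₁ h₂).2 e.hom
  obtain ⟨ψ, hψ⟩ := (h G₂ G₁ h₂ h₁).2 e.inv
  dsimp only at hφ hψ
  refine ⟨⟨φ, ψ, (h G₁ G₁ h₁ h₁).1 ?_, (h G₂ G₂ h₂ h₂).1 ?_⟩⟩
  · dsimp only
    rw [Functor.whiskerRight_comp, hφ, hψ, e.hom_inv_id, Functor.whiskerRight_id']
  · dsimp only
    rw [Functor.whiskerRight_comp, hφ, hψ, e.inv_hom_id, Functor.whiskerRight_id']

theorem isNoetherian_opens {Y : Scheme.{u}} [IsNoetherian Y] (W : Y.Opens) :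
    IsNoetherian (W : Scheme.{u}) := by
  have : CompactSpace (W : Scheme.{u}) :=
    isCompact_iff_compactSpace.1 (TopologicalSpace.NoetherianSpace.isCompact _)
  exact {}

/-- Extension can be tested after a flat base change which is an isomorphism modulo `I`. -/
theorem extends_iff_baseChange [IsNoetherianRing A] [IsNoetherianRing A'] [Module.Flat A A']
    (h : IsoMod (A' := A') I) (U : (Spec (CommRingCat.of A)).Opens)
    (G : ℕᵒᵖ ⥤ (U : Scheme.{u}).Modules) (hG : Formal.IsCohFormal I G) :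
    @Algz.Extends A _ (Spec (CommRingCat.of A)) ⟨𝟙 (Spec (CommRingCat.of A))⟩ I U G ↔
    @Algz.Extends A' _ (Spec (CommRingCat.of A')) ⟨𝟙 (Spec (CommRingCat.of A'))⟩
      (I.map (algebraMap A A')) (Spec.map (CommRingCat.ofHom (algebraMap A A')) ⁻¹ᵁ U)
      (G ⋙ Scheme.Modules.pullback (Spec.map (CommRingCat.ofHom (algebraMap A A')) ∣_ U)) := by
  set f := Spec.map (CommRingCat.ofHom (algebraMap A A')) with hfdef
  have hp1 : IsPullback (Spec (CommRingCat.of A') ↘ Spec (CommRingCat.of A')) f f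
      (Spec (CommRingCat.of A) ↘ Spec (CommRingCat.of A)) :=
    IsPullback.of_horiz_isIso ⟨(Category.id_comp f).trans (Category.comp_id f).symm⟩
  have hp2 : IsPullback ((f ⁻¹ᵁ U : Scheme.{u}) ↘ Spec (CommRingCat.of A')) (f ∣_ U) f
      ((U : Scheme.{u}) ↘ Spec (CommRingCat.of A)) := (isPullback_morphismRestrict f U).flip
  have n1 : IsNoetherian (Spec (CommRingCat.of A)) := inferInstance
  have n2 : IsNoetherian (Spec (CommRingCat.of A')) := inferInstance
  have n3 : IsNoetherian (U : Scheme.{u}) := isNoetherian_opens U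
  have n4 : IsNoetherian ((f ⁻¹ᵁ U : (Spec (CommRingCat.of A')).Opens) : Scheme.{u}) :=
    isNoetherian_opens _
  obtain ⟨-, h2, h3⟩ := equiv_of_isPullback h f hp1
  obtain ⟨h4, -, -⟩ := equiv_of_isPullback h (f ∣_ U) hp2
  constructor
  · rintro ⟨G', hG', ⟨e⟩⟩
    refine ⟨G' ⋙ Scheme.Modules.pullback f, h3 G' hG', ⟨?_⟩⟩
    exact Functor.isoWhiskerLeft G' (restrictPullbackIso f U) ≪≫
      Functor.isoWhiskerRight e (Scheme.Modules.pullback (f ∣_ U))
  · rintro ⟨G'', hG'', ⟨e⟩⟩
    obtain ⟨G₁, hG₁, ⟨e₁⟩⟩ := h2 G'' hG''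
    refine ⟨G₁, hG₁, ?_⟩
    refine nonempty_iso_of_bijective (f ∣_ U) (fun G => Formal.IsCohFormal I G) h4
      (Base.isCohFormal_restrictSys_spec U hG₁) hG ?_
    exact (Functor.isoWhiskerLeft G₁ (restrictPullbackIso f U)).symm ≪≫
      Functor.isoWhiskerRight e₁ (Scheme.Modules.restrictFunctor (f ⁻¹ᵁ U).ι) ≪≫ e

end Geom

section Completion

variable {A : Type u} [CommRing A] [IsNoetherianRing A]

/-- Extension is the same as being a completion over the completed ring. -/
theorem extends_iff_adicCompletion (I : Ideal A) (U : (Spec (CommRingCat.of A)).Opens)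
    (G : ℕᵒᵖ ⥤ (U : Scheme.{u}).Modules) (hG : Formal.IsCohFormal I G) :
    @Algz.Extends A _ (Spec (CommRingCat.of A)) ⟨𝟙 (Spec (CommRingCat.of A))⟩ I U G ↔
      ∃ F' : (↑(Spec.map (CommRingCat.ofHom (algebraMap A (AdicCompletion I A))) ⁻¹ᵁ U) :
          Scheme.{u}).Modules, Coh.IsCoh F' ∧
        Nonempty (Formal.completion (I.map (algebraMap A (AdicCompletion I A))) F' ≅
          G ⋙ Scheme.Modules.pullback
            (morphismRestrict (Spec.map (CommRingCat.ofHom (algebraMap A (AdicCompletion I A)))) U)) := by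
  have hN : IsNoetherianRing (AdicCompletion I A) :=
    Groth.Agent.FormalB.AdicNoeth.isNoetherianRing_adicCompletion I
  have hfl : Module.Flat A (AdicCompletion I A) := AdicCompletion.flat_of_isNoetherian I
  have hfg : I.FG := IsNoetherian.noetherian I
  have hc : IsAdicComplete (I.map (algebraMap A (AdicCompletion I A))) (AdicCompletion I A) :=
    AdicCompletion.isAdicComplete_self I hfg
  rw [extends_iff_baseChange (A' := AdicCompletion I A) (isoMod_adicCompletion I hfg) U G hG]
  constructor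
  · intro h
    exact Compl.exists_completion_of_extends _ _ _ h
  · rintro ⟨F', hF', ⟨e⟩⟩
    exact Compl.extends_of_completion _ (TopologicalSpace.NoetherianSpace.isCompact _) _ _ F' hF' e

end Completion

end K573.EquivBC
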