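import Groth.Agent.Algz.K573.ModLim

/-!
# The criterion for canonical extension
-/

set_option autoImplicit false
universe u

open CategoryTheory CategoryTheory.Limits AlgebraicGeometry Opposite
open Groth.Agent.FormalB.AdicSys K573.TildeSys K573.ModLim

namespace K573.Canon

variable {A : Type u} [CommRing A]

section Quot

variable (I : Ideal A) (M : Type u) [AddCommGroup M] [Module A M]

/-- The system `n ↦ M / I^(n+1) M`. -/
noncomputable def quotSys : ℕᵒᵖ ⥤ ModuleCat.{u} A :=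
  Functor.ofOpSequence (X := fun n => ModuleCat.of A (Formal2.quotPow A I M n))
    (fun n => ModuleCat.ofHom (Formal2.quotPowTrans A I M n))

/-- The projection `M → M / I^(n+1) M`, with target a term of `quotSys`. -/
noncomputable def qπ (n : ℕ) : M →ₗ[A] (quotSys I M).obj (op n) := Formal2.quotPowπ A I M n

theorem qπ_surjective (n : ℕ) : Function.Surjective (qπ I M n) := Submodule.mkQ_surjective _

theorem qπ_eq_zero_iff (n : ℕ) (x : M) : qπ I M n x = 0 ↔ x ∈ (I ^ (n + 1) • ⊤ : Submodule A M) :=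
  Submodule.Quotient.mk_eq_zero _

theorem tmap_quotSys (n : ℕ) : tmap (quotSys I M) n = Formal2.quotPowTrans A I M n :=
  congrArg ModuleCat.Hom.hom (Functor.ofOpSequence_map_homOfLE_succ
    (X := fun n => ModuleCat.of A (Formal2.quotPow A I M n))
    (fun n => ModuleCat.ofHom (Formal2.quotPowTrans A I M n)) n)

theorem tmap_qπ (n : ℕ) (x : M) : tmap (quotSys I M) n (qπ I M (n + 1) x) = qπ I M n x := by
  rw [tmap_quotSys]
  rfl

theorem tr_qπ {k n : ℕ} (h : k ≤ n) (x : M) :
    (ARSys.tr (quotSys I M) h).hom (qπ I M n x) = qπ I M k x := by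
  induction n, h using Nat.le_induction with
  | base => rw [tr_self_apply]
  | succ n hn ih =>
    rw [← tr_tr_apply _ hn (Nat.le_succ n)]
    exact (congrArg _ (tmap_qπ I M n x)).trans ih

/-- If all quotients are finite, `quotSys` is an adic system. -/
theorem isAdicMod_quotSys (h : ∀ n, Module.Finite A (Formal2.quotPow A I M n)) :
    IsAdicMod I (quotSys I M) where
  finite n := h n
  kill n a ha x := by
    obtain ⟨x, rfl⟩ := qπ_surjective I M n x
    rw [← map_smul, qπ_eq_zero_iff]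
    exact Submodule.smul_mem_smul ha trivial
  surj n x := by
    obtain ⟨x, rfl⟩ := qπ_surjective I M n x
    exact ⟨qπ I M (n + 1) x, tmap_qπ I M n x⟩
  ker_le n x hx := by
    obtain ⟨x, rfl⟩ := qπ_surjective I M (n + 1) x
    rw [tmap_qπ, qπ_eq_zero_iff] at hx
    have h1 := Submodule.mem_map_of_mem (f := qπ I M (n + 1)) hx
    rw [Submodule.map_smul''] at h1
    exact Submodule.smul_mono le_rfl le_top h1

end Quot

/-- canonical extension in terms of modules -/
theorem canonicallyExtends_iff (I : Ideal A) (U : (Spec (CommRingCat.of A)).Opens)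
    (G : ℕᵒᵖ ⥤ (U : Scheme.{u}).Modules) :
    Algz.CanonicallyExtends A I U G ↔
      ∃ T : ℕᵒᵖ ⥤ ModuleCat.{u} A, IsAdicMod I T ∧ Algz.IsProIsomorphic (Algz.sectMod A U G) T := by
  constructor
  · rintro ⟨G', hG', hp⟩
    refine ⟨_, isAdicMod_sections hG', ?_⟩
    exact ProIso.isProIsomorphic_iso_left
      (ProIso.isProIsomorphic_map (moduleSpecΓFunctor (R := CommRingCat.of A)) hp)
      (tildeSectionsIso (Algz.sectMod A U G))
  · rintro ⟨T, hT, hp⟩
    exact ⟨_, isCohFormal_tilde hT, ProIso.isProIsomorphic_map (tilde.functor (CommRingCat.of A)) hp⟩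

theorem isML_of_canonicallyExtends {I : Ideal A} {U : (Spec (CommRingCat.of A)).Opens}
    {G : ℕᵒᵖ ⥤ (U : Scheme.{u}).Modules} (h : Algz.CanonicallyExtends A I U G) :
    ARSys.IsML (Algz.sectMod A U G) := by
  obtain ⟨T, hT, m, hm, hle, a, ha⟩ := (canonicallyExtends_iff I U G).1 h
  refine isML_of_isProIso hm a ha (fun i j hij y => ?_) hle
  obtain ⟨x, hx⟩ := hT.trans_surjective hij y
  exact ⟨x, by rw [← trans_eq_tr]; exact hx⟩

theorem ker_le_of_canonicallyExtends {I : Ideal A} (hI : I.FG) {U : (Spec (CommRingCat.of A)).Opens}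
    {G : ℕᵒᵖ ⥤ (U : Scheme.{u}).Modules} (h : Algz.CanonicallyExtends A I U G) (k : ℕ) :
    ∃ n : ℕ, LinearMap.ker (limit.π (Algz.sectMod A U G) (op n)).hom ≤
      I ^ k • (⊤ : Submodule A ↑(limit (Algz.sectMod A U G))) := by
  obtain ⟨T, hT, m, hm, hle, a, ha⟩ := (canonicallyExtends_iff I U G).1 h
  refine ⟨m k, fun x hx => ?_⟩
  have h1 := mem_of_isProIso hm a hI hT ha hle k (limEquiv _ x) (by
    rw [limEquiv_apply]; exact hx)
  rw [limEquiv_mem_smul]
  exact Submodule.smul_mono_left (Ideal.pow_le_pow_right (Nat.le_succ k)) h1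

/-- a monotone function above a given one -/
theorem exists_mono (f : ℕ → ℕ) : ∃ g : ℕ → ℕ, Monotone g ∧ (∀ n, f n ≤ g n) ∧ ∀ n, n ≤ g n := by
  refine ⟨fun n => (∑ j ∈ Finset.range (n + 1), f j) + n, fun a b h => ?_, fun n => ?_, fun n => ?_⟩
  · exact Nat.add_le_add (Finset.sum_le_sum_of_subset (Finset.range_mono (Nat.succ_le_succ h))) h
  · exact (Finset.single_le_sum (f := f) (fun _ _ => Nat.zero_le _)
      (Finset.self_mem_range_succ n)).trans (Nat.le_add_right _ _)
  · exact Nat.le_add_left _ _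

section Criterion

variable (I : Ideal A) (S : ℕᵒᵖ ⥤ ModuleCat.{u} A)

/-- the map `range (L → S_N) → L / I^(k+1) L`. -/
noncomputable def gk (N k : ℕ) (h : ∀ x : L S, x.1 N = 0 → x ∈ (I ^ (k + 1) • ⊤ : Submodule A (L S))) :
    LinearMap.range (Lim.proj (M := fun n => S.obj (op n)) (tmap S) N) →ₗ[A] (quotSys I (L S)).obj (op k) :=
  ((LinearMap.ker (Lim.proj (M := fun n => S.obj (op n)) (tmap S) N)).liftQ (qπ I (L S) k)
    (fun x hx => (qπ_eq_zero_iff I (L S) k x).2 (h x hx))).comp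
      (LinearMap.quotKerEquivRange (Lim.proj (M := fun n => S.obj (op n)) (tmap S) N)).symm.toLinearMap

theorem gk_apply (N k : ℕ) (h : ∀ x : L S, x.1 N = 0 → x ∈ (I ^ (k + 1) • ⊤ : Submodule A (L S)))
    (y : LinearMap.range (Lim.proj (M := fun n => S.obj (op n)) (tmap S) N)) (x : L S)
    (hx : x.1 N = y.1) : gk I S N k h y = qπ I (L S) k x := by
  have h1 : (LinearMap.quotKerEquivRange (Lim.proj (M := fun n => S.obj (op n)) (tmap S) N)).symm y =
      Submodule.Quotient.mk x := by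
    rw [LinearEquiv.symm_apply_eq]
    exact Subtype.ext hx.symm
  unfold gk
  rw [LinearMap.comp_apply, LinearEquiv.coe_coe, h1]
  rfl

/-- The criterion: Mittag-Leffler + limit topology is `I`-adic + finite images. -/
theorem exists_adic_of_criterion
    (hk : ∀ n, ∀ a ∈ I ^ (n + 1), ∀ x : S.obj (op n), a • x = 0)
    (hML : ARSys.IsML S)
    (htop : ∀ k : ℕ, ∃ n : ℕ, ∀ x : L S, x.1 n = 0 → x ∈ (I ^ (k + 1) • ⊤ : Submodule A (L S)))
    (hfin : ∀ n : ℕ, Module.Finite A (LinearMap.range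
      (Lim.proj (M := fun n => S.obj (op n)) (tmap S) n))) :
    IsAdicMod I (quotSys I (L S)) ∧ Algz.IsProIsomorphic S (quotSys I (L S)) := by
  have hfinq : ∀ n, Module.Finite A (Formal2.quotPow A I (L S) n) := by
    intro n
    obtain ⟨N, hN⟩ := htop n
    have := hfin N
    refine Module.Finite.of_surjective (gk I S N n hN) fun y => ?_
    obtain ⟨x, rfl⟩ := qπ_surjective I (L S) n y
    exact ⟨⟨x.1 N, x, rfl⟩, gk_apply I S N n hN _ x rfl⟩
  refine ⟨isAdicMod_quotSys I _ hfinq, ?_⟩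
  choose N₀ hN₀ using htop
  obtain ⟨N, hNm, hN₀N, hNle⟩ := exists_mono N₀
  have hN : ∀ k, ∀ x : L S, x.1 (N k) = 0 → x ∈ (I ^ (k + 1) • ⊤ : Submodule A (L S)) := by
    intro k x hx
    refine hN₀ k x ?_
    rw [← L_tr x (hN₀N k), hx, map_zero]
  have hst := exists_of_isML S hML
  choose K hK hKx using hst
  obtain ⟨m₀, hm₀, hm₀K, -⟩ := exists_mono (fun k => K (N k))
  let m := m₀
  have hm : Monotone m := hm₀
  have hmN : ∀ k, N k ≤ m k := fun k => (hK (N k)).trans (hm₀K k)
  have hle : ∀ k, k ≤ m k := fun k => (hNle k).trans (hmN k)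
  have hx : ∀ k (y : S.obj (op (m k))), ∃ x : L S, x.1 (N k) = (ARSys.tr S (hmN k)).hom y := by
    intro k y
    obtain ⟨x, hx⟩ := hKx (N k) ((ARSys.tr S (hm₀K k)).hom y)
    exact ⟨x, by rw [hx, tr_tr_apply]⟩
  let r : ∀ k, S.obj (op (m k)) →ₗ[A]
      LinearMap.range (Lim.proj (M := fun n => S.obj (op n)) (tmap S) (N k)) := fun k =>
    (ARSys.tr S (hmN k)).hom.codRestrict _ (fun y => by
      obtain ⟨x, hx⟩ := hx k y
      exact ⟨x, hx⟩)
  let a' : ∀ k, S.obj (op (m k)) →ₗ[A] (quotSys I (L S)).obj (op k) := fun k =>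
    (gk I S (N k) k (hN k)).comp (r k)
  have ha' : ∀ k (y : S.obj (op (m k))) (x : L S), x.1 (N k) = (ARSys.tr S (hmN k)).hom y →
      a' k y = qπ I (L S) k x := fun k y x h => gk_apply I S (N k) k (hN k) (r k y) x h
  have hnat : ∀ k (y : S.obj (op (m (k + 1)))),
      a' k ((ARSys.tr S (hm (Nat.le_succ k))).hom y) =
        (ARSys.tr (quotSys I (L S)) (Nat.le_succ k)).hom (a' (k + 1) y) := by
    intro k y
    obtain ⟨x, hxy⟩ := hx (k + 1) y
    rw [ha' (k + 1) y x hxy, tr_qπ]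
    apply ha'
    rw [tr_tr_apply, ← L_tr x (hNm (Nat.le_succ k)), hxy, tr_tr_apply]
  let a : DerCA.reindex S hm ⟶ quotSys I (L S) :=
    NatTrans.ofOpSequence (F := DerCA.reindex S hm) (G := quotSys I (L S))
      (fun k => ModuleCat.ofHom (a' k)) (fun k => by
        ext y
        exact hnat k y)
  have haa : ∀ k (y : S.obj (op (m k))), (a.app (op k)).hom y = a' k y := fun k y => rfl
  refine ⟨m, hm, hle, a, fun k => ?_⟩
  -- the map back
  let b' : (quotSys I (L S)).obj (op (m k)) →ₗ[A] S.obj (op (m k)) :=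
    (I ^ (m k + 1) • ⊤ : Submodule A (L S)).liftQ
      (Lim.proj (M := fun n => S.obj (op n)) (tmap S) (m k)) (by
        refine Submodule.smul_le.2 fun c hc x _ => ?_
        rw [LinearMap.mem_ker, map_smul]
        exact hk (m k) c hc _)
  have hb' : ∀ x : L S, b' (qπ I (L S) (m k) x) = x.1 (m k) := fun x => rfl
  refine ⟨m k, hle k, ModuleCat.ofHom b', ?_, ?_⟩
  · ext y
    obtain ⟨x, hxy⟩ := hx (m k) y
    have e1 : b' (a' (m k) y) = (ARSys.tr S (hm (hle k))).hom y := by
      rw [ha' (m k) y x hxy, hb', ← L_tr x (hNle (m k)), hxy, tr_tr_apply]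
    exact e1
  · ext z
    obtain ⟨x, rfl⟩ := qπ_surjective I (L S) (m k) z
    have e1 : a' k (b' (qπ I (L S) (m k) x)) = (ARSys.tr (quotSys I (L S)) (hle k)).hom
        (qπ I (L S) (m k) x) := by
      rw [hb', tr_qπ]
      apply ha'
      rw [L_tr]
    exact e1

end Criterion

theorem kill_sectMod {I : Ideal A} {U : (Spec (CommRingCat.of A)).Opens}
    {G : ℕᵒᵖ ⥤ (U : Scheme.{u}).Modules} (hG : ∀ n : ℕ, Formal.KilledBy (I ^ (n + 1)) (G.obj (op n)))
    (n : ℕ) (a : A) (ha : a ∈ I ^ (n + 1)) (x : (Algz.sectMod A U G).obj (op n)) : a • x = 0 :=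
  Groth.Agent.FormalB.PuncSys.smul_eq_zero_of_killedBy U (hG n) ha x

/-- The criterion for canonical extension. -/
theorem canonicallyExtends_of {I : Ideal A} {U : (Spec (CommRingCat.of A)).Opens}
    {G : ℕᵒᵖ ⥤ (U : Scheme.{u}).Modules} (hG : ∀ n : ℕ, Formal.KilledBy (I ^ (n + 1)) (G.obj (op n)))
    (ha : ARSys.IsML (Algz.sectMod A U G))
    (hb : ∀ k : ℕ, ∃ n : ℕ, LinearMap.ker (limit.π (Algz.sectMod A U G) (op n)).hom ≤
      I ^ k • (⊤ : Submodule A ↑(limit (Algz.sectMod A U G))))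
    (hc : ∀ n : ℕ, Module.Finite A ↥(LinearMap.range (limit.π (Algz.sectMod A U G) (op n)).hom)) :
    Algz.CanonicallyExtends A I U G := by
  rw [canonicallyExtends_iff]
  refine ⟨_, exists_adic_of_criterion I (Algz.sectMod A U G) (kill_sectMod hG) ha ?_ ?_⟩
  · intro k
    obtain ⟨n, hn⟩ := hb (k + 1)
    refine ⟨n, fun x hx => ?_⟩
    have h1 := hn (x := (limEquiv _).symm x) (by
      rw [LinearMap.mem_ker, limEquiv_symm_apply]
      exact hx)
    rw [limEquiv_mem_smul, LinearEquiv.apply_symm_apply] at h1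
    exact h1
  · intro n
    have e : LinearMap.range (Lim.proj (M := fun n => (Algz.sectMod A U G).obj (op n))
        (tmap (Algz.sectMod A U G)) n) = LinearMap.range (limit.π (Algz.sectMod A U G) (op n)).hom := by
      apply le_antisymm
      · rintro _ ⟨x, rfl⟩
        exact ⟨_, limEquiv_symm_apply _ x n⟩
      · rintro _ ⟨x, rfl⟩
        exact ⟨limEquiv _ x, limEquiv_apply _ x n⟩
    rw [e]
    exact hc n

end K573.Canon
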