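import Groth.Agent.Sga67.BlowCover
import Groth.Agent.VarietyB.DimTop
import Mathlib.RingTheory.KrullDimension.Polynomial
import Mathlib.RingTheory.KrullDimension.Field

/-!
# Dimension of the fibres of the blow-up of an ideal with `d` generators
-/

set_option autoImplicit false
universe u

open CategoryTheory AlgebraicGeometry Limits BlowUp TensorProduct

namespace K573.BlowDim

open Groth.Agent.Divis Groth.Agent.Divis.BlowChart Groth.Agent

/-- The chart `A[J/f_i]` is generated by the `f_j/f_i`, `j ≠ i`. -/
theorem exists_surjective {A : Type u} [CommRing A] {d : ℕ} (f : Fin d → A) (i : Fin d) :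
    ∃ φ : MvPolynomial {j : Fin d // j ≠ i} A →ₐ[A] affineAlgebra A (Ideal.span (Set.range f)) (f i),
      Function.Surjective φ := by
  classical
  set J := Ideal.span (Set.range f)
  have hmem : ∀ x ∈ J, (IsLocalization.mk' (Localization.Away (f i)) x
      ⟨f i, Submonoid.mem_powers (f i)⟩ : Localization.Away (f i)) ∈ affineAlgebra A J (f i) := fun x hx =>
    Algebra.subset_adjoin ⟨x, hx, rfl⟩
  have hf : ∀ j, f j ∈ J := fun j => Ideal.subset_span ⟨j, rfl⟩
  let g : Fin d → affineAlgebra A J (f i) := fun j => ⟨_, hmem (f j) (hf j)⟩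
  let φ : MvPolynomial {j : Fin d // j ≠ i} A →ₐ[A] affineAlgebra A J (f i) :=
    MvPolynomial.aeval fun j => g j.1
  refine ⟨φ, ?_⟩
  have hg : ∀ j, g j ∈ φ.range := by
    intro j
    by_cases hj : j = i
    · subst hj
      have : g j = 1 := by
        apply Subtype.ext
        change IsLocalization.mk' _ _ _ = (1 : Localization.Away (f j))
        exact IsLocalization.mk'_self' (Localization.Away (f j))
          (x := (⟨f j, Submonoid.mem_powers (f j)⟩ : Submonoid.powers (f j)))
      rw [this]
      exact one_mem _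
    · exact ⟨MvPolynomial.X ⟨j, hj⟩, by simp [φ]⟩
  rw [← AlgHom.range_eq_top]
  have h1 : (Subalgebra.map (Subalgebra.val (affineAlgebra A J (f i))) φ.range) =
      affineAlgebra A J (f i) := by
    apply le_antisymm
    · rintro _ ⟨y, -, rfl⟩
      exact y.2
    · refine Algebra.adjoin_le ?_
      rintro q ⟨x, hx, rfl⟩
      obtain ⟨c, rfl⟩ := Ideal.mem_span_range_iff_exists_fun.mp hx
      have h2 : (IsLocalization.mk' (Localization.Away (f i)) (∑ j, c j * f j)
          ⟨f i, Submonoid.mem_powers (f i)⟩ : Localization.Away (f i)) =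
          ((∑ j, c j • g j : affineAlgebra A J (f i)) : Localization.Away (f i)) := by
        rw [IsLocalization.mk'_eq_iff_eq_mul]
        simp only [AddSubmonoidClass.coe_finsetSum, SetLike.val_smul, map_sum, map_mul,
          Finset.sum_mul, g]
        refine Finset.sum_congr rfl fun j _ => ?_
        rw [Algebra.smul_mul_assoc, IsLocalization.mk'_spec, Algebra.smul_def]
      rw [h2]
      refine ⟨_, ?_, rfl⟩
      exact sum_mem fun j _ => Subalgebra.smul_mem _ (hg j) _
  rw [eq_top_iff]
  rintro ⟨y, hy⟩ -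
  have h3 : y ∈ Subalgebra.map (Subalgebra.val (affineAlgebra A J (f i))) φ.range := by
    rw [h1]; exact hy
  obtain ⟨z, hz, hzy⟩ := h3
  have : z = ⟨y, hy⟩ := Subtype.ext hzy
  rwa [← this]

theorem ringKrullDim_fiber_add_one_le {A : Type u} [CommRing A] {d : ℕ} (f : Fin d → A) (i : Fin d)
    (κ : Type u) [Field κ] [Algebra A κ] :
    ringKrullDim (κ ⊗[A] affineAlgebra A (Ideal.span (Set.range f)) (f i)) + 1 ≤
      (d : WithBot ℕ∞) := by
  obtain ⟨φ, hφ⟩ := exists_surjective f i
  let e := (MvPolynomial.algebraTensorAlgEquiv (σ := {j : Fin d // j ≠ i}) A κ)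
  let ψ := (Algebra.TensorProduct.map (AlgHom.id κ κ) φ).comp e.symm.toAlgHom
  have hψ : Function.Surjective ψ := by
    have h0 : Function.Surjective (Algebra.TensorProduct.map (AlgHom.id κ κ) φ) :=
      LinearMap.lTensor_surjective κ (g := φ.toLinearMap) hφ
    exact h0.comp e.symm.surjective
  have h1 := ringKrullDim_le_of_surjective ψ.toRingHom hψ
  rw [MvPolynomial.ringKrullDim_of_isNoetherianRing, ringKrullDim_eq_zero_of_field] at h1
  have h2 : Nat.card {j : Fin d // j ≠ i} + 1 = d := by
    rw [Nat.card_eq_fintype_card, Fintype.card_subtype_compl, Fintype.card_fin,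
      Fintype.card_subtype_eq]
    have := i.pos
    omega
  calc _ ≤ (0 + (Nat.card {j : Fin d // j ≠ i} : WithBot ℕ∞)) + 1 := by gcongr
    _ = _ := by
      rw [zero_add]
      exact_mod_cast congrArg (fun n : ℕ => (n : WithBot ℕ∞)) h2

theorem le_of_add_one_le {a : WithBot ℕ∞} {n : ℕ} (h : a + 1 ≤ (n : WithBot ℕ∞) + 1) :
    a ≤ (n : WithBot ℕ∞) := by
  induction a with
  | bot => exact bot_le
  | coe a =>
    have h1 : a + 1 ≤ (n : ℕ∞) + 1 := by exact_mod_cast h
    have h2 : a ≤ (n : ℕ∞) := (ENat.add_le_add_iff_right (by simp)).mp h1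
    exact_mod_cast h2

/-- All fibres of the blow-up of `(f_1, ..., f_d)` have dimension at most `d - 1`. -/
theorem fibre_dim (A : Type u) [CommRing A] (d : ℕ) (f : Fin d → A) {X' : Scheme.{u}}
    (b : X' ⟶ Spec (CommRingCat.of A))
    (hb : IsBlowUp b (Scheme.IdealSheafData.ofIdealTop
      ((Ideal.span (Set.range f)).map (Scheme.ΓSpecIso (CommRingCat.of A)).inv.hom)))
    (x : Spec (CommRingCat.of A)) :
    topologicalKrullDim ↑(pullback b ((Spec (CommRingCat.of A)).fromSpecResidueField x)) + 1 ≤
      (d : WithBot ℕ∞) := by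
  set s := (Spec (CommRingCat.of A)).fromSpecResidueField x
  set F := pullback b s
  set J := Ideal.span (Set.range f)
  rcases isEmpty_or_nonempty F with hF | ⟨⟨p0⟩⟩
  · have : topologicalKrullDim ↑F = ⊥ := by
      have : IsEmpty (TopologicalSpace.IrreducibleCloseds F) :=
        ⟨fun Z => hF.false Z.isIrreducible.nonempty.some⟩
      exact Order.krullDim_eq_bot
    rw [this]
    simp
  have hd : 1 ≤ d := by
    obtain ⟨_, ⟨i, rfl⟩, -⟩ := Sga67.BlowCover.exists_mem_chartLocus_of_span J b hb.1
      (S := Set.range f) rfl ((pullback.fst b s).base p0)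
    exact i.pos
  obtain ⟨n, rfl⟩ : ∃ n, d = n + 1 := ⟨d - 1, by omega⟩
  have key : topologicalKrullDim ↑F ≤ (n : WithBot ℕ∞) := by
    refine VarietyB.DimTop.topologicalKrullDim_le_of_forall fun p => ?_
    obtain ⟨_, ⟨i, rfl⟩, hi⟩ := Sga67.BlowCover.exists_mem_chartLocus_of_span J b hb.1
      (S := Set.range f) rfl ((pullback.fst b s).base p)
    obtain ⟨e, he⟩ := exists_iso J b hb (a := f i) (Ideal.subset_span ⟨i, rfl⟩)
    let U : F.Opens := pullback.fst b s ⁻¹ᵁ chartLocus J b (f i)
    refine ⟨U, hi, ?_⟩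
    let κ := (Spec (CommRingCat.of A)).residueField x
    let α : CommRingCat.of A ⟶ κ := Spec.preimage s
    let _ : Algebra A κ := α.hom.toAlgebra
    let _ : Field κ := inferInstance
    have hα : Spec.map (CommRingCat.ofHom (algebraMap A κ)) = s := Spec.map_preimage s
    let B := affineAlgebra A J (f i)
    let c : Spec (CommRingCat.of B) ⟶ X' := e.inv ≫ (chartLocus J b (f i)).ι
    have hc : c ≫ b = chartMap J (f i) := by
      rw [Category.assoc, ← he, Iso.inv_hom_id_assoc]
    have hcr : Set.range c = (chartLocus J b (f i) : Set X') := by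
      have h0 : c.opensRange = chartLocus J b (f i) := by
        rw [Scheme.Hom.opensRange_comp_of_isIso, Scheme.Opens.opensRange_ι]
      rw [← h0]
      rfl
    have H1 : IsPullback (pullback.fst c (pullback.fst b s)) (pullback.snd c (pullback.fst b s)) c
      (pullback.fst b s) := IsPullback.of_hasPullback _ _
    have H2 : IsPullback (pullback.fst c (pullback.fst b s))
        (pullback.snd c (pullback.fst b s) ≫ pullback.snd b s) (c ≫ b) s :=
      H1.paste_vert (IsPullback.of_hasPullback b s)
    have hr : Set.range (pullback.snd c (pullback.fst b s)) = (U : Set F) := by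
      rw [Scheme.Pullback.range_snd, hcr]
      rfl
    let j := pullback.snd c (pullback.fst b s)
    have hj : j.opensRange = U := by
      ext1
      exact hr
    let eU : (pullback c (pullback.fst b s) : Scheme.{u}) ≅ U.toScheme :=
      j.isoOpensRange ≪≫ F.isoOfEq hj
    have h3 : topologicalKrullDim (U : Set F) =
        topologicalKrullDim ↑(pullback c (pullback.fst b s) : Scheme.{u}) :=
      (IsHomeomorph.topologicalKrullDim_eq _ (Scheme.homeoOfIso eU).isHomeomorph).symm
    have H3 : IsPullback (pullback.snd (Spec.map (CommRingCat.ofHom (algebraMap A κ)))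
        (Spec.map (CommRingCat.ofHom (algebraMap A B))))
        (pullback.fst (Spec.map (CommRingCat.ofHom (algebraMap A κ)))
        (Spec.map (CommRingCat.ofHom (algebraMap A B)))) (c ≫ b) s := by
      rw [hc, ← hα]
      exact (IsPullback.of_hasPullback _ _).flip
    let e2 := H2.isoIsPullback _ _ H3
    let e3 := e2 ≪≫ pullbackSpecIso A κ B
    rw [h3, IsHomeomorph.topologicalKrullDim_eq _ (Scheme.homeoOfIso e3).isHomeomorph]
    have h4 : topologicalKrullDim ↑(Spec (CommRingCat.of (κ ⊗[A] B))) = ringKrullDim (κ ⊗[A] B) :=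
      PrimeSpectrum.topologicalKrullDim_eq_ringKrullDim _
    have h5 := ringKrullDim_fiber_add_one_le f i κ
    rw [h4]
    have h6 : ringKrullDim (κ ⊗[A] B) + 1 ≤ (n : WithBot ℕ∞) + 1 := by
      refine h5.trans ?_
      norm_cast
    exact le_of_add_one_le h6
  calc _ ≤ (n : WithBot ℕ∞) + 1 := by gcongr
    _ = _ := by norm_cast

end K573.BlowDim
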