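import Groth.Agent.Algz.K573.Canon
import Groth.Agent.CohqA.FBCRes
import Groth.Agent.CohqA.PullbackSections
import Groth.Agent.CurvesA.FlatH0
import Groth.Agent.PerfB.BCModIso

/-!
# Flat base change and canonical extensions
-/

set_option autoImplicit false
universe u

open CategoryTheory CategoryTheory.Limits AlgebraicGeometry Opposite
open Groth.Agent.FormalB.ModPow Groth.Agent.FormalB.AdicSys K573.TildeSys
open Groth.Agent.CohqA.BaseChangeMod Groth.Agent.CohqA.FBCRes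

namespace K573.FlatBC

section Alg

variable {A A' : Type u} [CommRing A] [CommRing A'] {φ : A →+* A'}

theorem span_range {M M' : Type u} [AddCommGroup M] [AddCommGroup M'] [Module A M] [Module A' M']
    {b : M →+ M'} (h : IsBC φ b) : Submodule.span A' (Set.range b) = ⊤ := by
  have h1 : (Submodule.span A' (Set.range b)).mkQ = (0 : M' →ₗ[A'] _) := by
    refine h.hom_ext fun x => ?_
    rw [LinearMap.zero_apply, Submodule.mkQ_apply, Submodule.Quotient.mk_eq_zero]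
    exact Submodule.subset_span ⟨x, rfl⟩
  rw [← Submodule.ker_mkQ (Submodule.span A' (Set.range b)), h1, LinearMap.ker_zero]

theorem finite_of_isBC {M M' : Type u} [AddCommGroup M] [AddCommGroup M'] [Module A M] [Module A' M']
    {b : M →+ M'} (h : IsBC φ b) [hM : Module.Finite A M] : Module.Finite A' M' := by
  obtain ⟨s, hs⟩ := hM.fg_top
  classical
  refine ⟨⟨s.image b, ?_⟩⟩
  rw [eq_top_iff, ← span_range h, Submodule.span_le]
  rintro _ ⟨x, rfl⟩
  have hx : x ∈ Submodule.span A (s : Set M) := hs ▸ trivial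
  refine Submodule.span_induction (p := fun x _ => b x ∈ Submodule.span A' ((s.image b : Finset M') : Set M'))
    (fun x hx => ?_) ?_ (fun x y _ _ hx hy => ?_) (fun a x _ hx => ?_) hx
  · exact Submodule.subset_span (Finset.mem_coe.2 (Finset.mem_image_of_mem b hx))
  · rw [map_zero]; exact zero_mem _
  · rw [map_add]; exact add_mem hx hy
  · rw [h.map_smul]; exact Submodule.smul_mem _ _ hx

theorem map_smul_mem {M M' : Type u} [AddCommGroup M] [AddCommGroup M'] [Module A M] [Module A' M']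
    {b : M →+ M'} (h : IsBC φ b) (J : Ideal A) {x : M} (hx : x ∈ (J • ⊤ : Submodule A M)) :
    b x ∈ (J.map φ • ⊤ : Submodule A' M') := by
  refine Submodule.smul_induction_on hx (fun a ha m _ => ?_) (fun x y hx hy => ?_)
  · rw [h.map_smul]
    exact Submodule.smul_mem_smul (Ideal.mem_map_of_mem _ ha) trivial
  · rw [map_add]; exact add_mem hx hy

theorem exists_factor {M N Q : Type u} [AddCommGroup M] [AddCommGroup N] [AddCommGroup Q] (f : M →+ N)
    (hf : Function.Surjective f) (g : M →+ Q) (h : ∀ x, f x = 0 → g x = 0) :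
    ∃ g₀ : N →+ Q, ∀ x, g₀ (f x) = g x :=
  ⟨AddMonoidHom.liftOfSurjective f hf ⟨g, fun x hx => h x hx⟩,
    fun x => AddMonoidHom.liftOfRightInverse_comp_apply f _ _ ⟨g, fun x hx => h x hx⟩ x⟩

/-- The base change of an adic system is adic. -/
theorem isAdicMod_of_isBC {I : Ideal A} {S : ℕᵒᵖ ⥤ ModuleCat.{u} A} {S' : ℕᵒᵖ ⥤ ModuleCat.{u} A'}
    (b : ∀ n, S.obj (op n) →+ S'.obj (op n)) (hb : ∀ n, IsBC φ (b n))
    (hc : ∀ n x, b n (tmap S n x) = tmap S' n (b (n + 1) x)) (h : IsAdicMod I S) :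
    IsAdicMod (I.map φ) S' where
  finite n :=
    have := h.finite n
    finite_of_isBC (hb n)
  kill n a ha x := by
    rw [← Ideal.map_pow] at ha
    have h1 : ∀ x : S'.obj (op n), ∀ c ∈ (I ^ (n + 1)), φ c • x = 0 := by
      intro x c hc'
      have h2 : LinearMap.lsmul A' (S'.obj (op n)) (φ c) = 0 := by
        refine (hb n).hom_ext fun y => ?_
        rw [LinearMap.lsmul_apply, LinearMap.zero_apply, ← (hb n).map_smul, h.kill n c hc' y, map_zero]
      exact LinearMap.congr_fun h2 x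
    refine Submodule.span_induction (p := fun a _ => a • x = 0) ?_ ?_ ?_ ?_ ha
    · rintro _ ⟨c, hc', rfl⟩
      exact h1 x c hc'
    · exact zero_smul _ _
    · intro a c _ _ ha hc'
      rw [add_smul, ha, hc', add_zero]
    · intro c a _ ha
      rw [smul_eq_mul, mul_smul, ha, smul_zero]
  surj n := by
    rw [← LinearMap.range_eq_top, eq_top_iff, ← span_range (hb n), Submodule.span_le]
    rintro _ ⟨x, rfl⟩
    obtain ⟨y, rfl⟩ := h.surj n x
    exact ⟨b (n + 1) y, (hc n y).symm⟩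
  ker_le n x hx := by
    rw [← Ideal.map_pow]
    set N : Submodule A' (S'.obj (op (n + 1))) := (I ^ (n + 1)).map φ • ⊤ with hN
    obtain ⟨g₀, hg₀⟩ := exists_factor (tmap S n).toAddMonoidHom (h.surj n)
      (N.mkQ.toAddMonoidHom.comp (b (n + 1))) (fun y hy => by
        have h1 := map_smul_mem (hb (n + 1)) (I ^ (n + 1)) (h.ker_le n y hy)
        exact (Submodule.Quotient.mk_eq_zero N).2 h1)
    obtain ⟨g', hg', -⟩ := (hb n).lift (S'.obj (op (n + 1)) ⧸ N) g₀ (by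
      intro r y
      obtain ⟨y, rfl⟩ := h.surj n y
      rw [← map_smul]
      refine (hg₀ (r • y)).trans (Eq.trans ?_ (congrArg (fun z => φ r • z) (hg₀ y)).symm)
      change N.mkQ (b (n + 1) (r • y)) = φ r • N.mkQ (b (n + 1) y)
      rw [(hb (n + 1)).map_smul, map_smul])
    have h2 : g'.comp (tmap S' n) = N.mkQ := by
      refine (hb (n + 1)).hom_ext fun y => ?_
      rw [LinearMap.comp_apply, ← hc, hg']
      exact hg₀ y
    have h3 := LinearMap.congr_fun h2 x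
    rw [LinearMap.comp_apply, hx, map_zero, Submodule.mkQ_apply, eq_comm,
      Submodule.Quotient.mk_eq_zero] at h3
    exact h3

theorem isAdicMod_extend (φ : A →+* A') {I : Ideal A} {S : ℕᵒᵖ ⥤ ModuleCat.{u} A} (h : IsAdicMod I S) :
    IsAdicMod (I.map φ) (S ⋙ ModuleCat.extendScalars.{u, u, u} φ) :=
  isAdicMod_of_isBC (S' := S ⋙ ModuleCat.extendScalars.{u, u, u} φ)
    (fun n => addOf φ (N := (ModuleCat.extendScalars.{u, u, u} φ).obj (S.obj (op n)))
      ((ModuleCat.extendRestrictScalarsAdj φ).unit.app (S.obj (op n))))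
    (fun n => isBC_unit φ (ModuleCat.extendRestrictScalarsAdj φ) _)
    (fun n x => congr(($((ModuleCat.extendRestrictScalarsAdj φ).unit.naturality
      (S.map (homOfLE (Nat.le_succ n)).op))).hom x)) h

end Alg

section Geom

variable {A A' : Type u} [CommRing A] [CommRing A'] [Algebra A A']

/-- `M ↦ Γ(U, M)` as an `A`-module. -/
noncomputable abbrev Gm (A : Type u) [CommRing A] (U : (Spec (CommRingCat.of A)).Opens) :
    (U : Scheme.{u}).Modules ⥤ ModuleCat.{u} A :=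
  Scheme.Modules.pushforward U.ι ⋙ moduleSpecΓFunctor (R := CommRingCat.of A)

variable (A A') in
/-- `Spec A' ⟶ Spec A`. -/
noncomputable abbrev sp : Spec (CommRingCat.of A') ⟶ Spec (CommRingCat.of A) :=
  Spec.map (CommRingCat.ofHom (algebraMap A A'))

/-- The map `Γ(U, M) → Γ(U', g^* M)`. -/
noncomputable def uTop (U : (Spec (CommRingCat.of A)).Opens) (M : (U : Scheme.{u}).Modules) :
    (Gm A U).obj M →+ (Gm A' (sp A A' ⁻¹ᵁ U)).obj ((Scheme.Modules.pullback (sp A A' ∣_ U)).obj M) :=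
  (((Scheme.Modules.pullbackPushforwardAdjunction (sp A A' ∣_ U)).unit.app M).app (U.ι ⁻¹ᵁ ⊤)).hom

theorem Gm_smul (U : (Spec (CommRingCat.of A)).Opens) (M : (U : Scheme.{u}).Modules) (a : A)
    (x : (Gm A U).obj M) : a • x = (show Γ(M, U.ι ⁻¹ᵁ ⊤) from
      (U.ι.app ⊤ ((Scheme.ΓSpecIso (CommRingCat.of A)).inv a) : Γ((U : Scheme.{u}), U.ι ⁻¹ᵁ ⊤)) •
        (show Γ(M, U.ι ⁻¹ᵁ ⊤) from x)) := rfl

theorem flat_sp [Module.Flat A A'] : Flat (sp A A') := by
  rw [Flat.SpecMap_iff]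
  exact RingHom.flat_algebraMap_iff.2 inferInstance

theorem appLE_preimage_top {X Y : Scheme.{u}} (f : X ⟶ Y) (h : f ⁻¹ᵁ ⊤ ≤ f ⁻¹ᵁ ⊤) :
    f.appLE ⊤ (f ⁻¹ᵁ ⊤) h = f.app ⊤ := f.appLE_eq_app

/-- Flat base change for sections over a compact open. -/
theorem isBC_uTop [Module.Flat A A'] (U : (Spec (CommRingCat.of A)).Opens)
    (hU : IsCompact (U : Set (Spec (CommRingCat.of A)))) (M : (U : Scheme.{u}).Modules)
    (hM : Coh.IsQCoh M) :
    IsBC (M := (Gm A U).obj M)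
      (N := (Gm A' (sp A A' ⁻¹ᵁ U)).obj ((Scheme.Modules.pullback (sp A A' ∣_ U)).obj M))
      (algebraMap A A') (uTop (A' := A') U M) := by
  have hfl : Flat (sp A A') := flat_sp
  have hcU : CompactSpace (U : Scheme.{u}) := isCompact_iff_compactSpace.1 hU
  have hqU : QuasiSeparatedSpace (U : Scheme.{u}) :=
    (isQuasiSeparated_iff_quasiSeparatedSpace (U : Set (Spec (CommRingCat.of A))) U.isOpen).1
      (IsQuasiSeparated.of_quasiSeparatedSpace _)
  have hW : IsCompact ((U.ι ⁻¹ᵁ ⊤ : (U : Scheme.{u}).Opens) : Set (U : Scheme.{u})) := isCompact_univ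
  have hW' : IsQuasiSeparated ((U.ι ⁻¹ᵁ ⊤ : (U : Scheme.{u}).Opens) : Set (U : Scheme.{u})) :=
    isQuasiSeparated_univ
  have H : IsPullback (sp A A' ∣_ U) (sp A A' ⁻¹ᵁ U).ι U.ι (sp A A') :=
    (isPullback_morphismRestrict (sp A A') U)
  have h1 := Groth.Agent.CurvesA.FlatH0.isBaseChange_of_qcqs U.ι (sp A A' ⁻¹ᵁ U).ι (sp A A')
    (sp A A' ∣_ U) H M hM (W := U.ι ⁻¹ᵁ ⊤) hW hW' (V := (sp A A' ∣_ U) ⁻¹ᵁ (U.ι ⁻¹ᵁ ⊤)) rfl
  letI i0 := Groth.Agent.CurvesA.FlatH0.baseAlg (sp A A')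
  letI i1 : ∀ V : (U : Scheme.{u}).Opens, Module Γ(Spec (CommRingCat.of A), ⊤) Γ(M, V) :=
    fun V => Groth.Agent.CurvesA.FlatH0.modX U.ι M V
  letI i2 : ∀ V : ((sp A A' ⁻¹ᵁ U : (Spec (CommRingCat.of A')).Opens) : Scheme.{u}).Opens,
      Module Γ(Spec (CommRingCat.of A'), ⊤) Γ((Scheme.Modules.pullback (sp A A' ∣_ U)).obj M, V) :=
    fun V => Groth.Agent.CurvesA.FlatH0.modX (sp A A' ⁻¹ᵁ U).ι _ V
  letI i3 : ∀ V : ((sp A A' ⁻¹ᵁ U : (Spec (CommRingCat.of A')).Opens) : Scheme.{u}).Opens,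
      Module Γ(Spec (CommRingCat.of A), ⊤) Γ((Scheme.Modules.pullback (sp A A' ∣_ U)).obj M, V) :=
    fun V => Groth.Agent.CurvesA.FlatH0.modX' (sp A A' ⁻¹ᵁ U).ι (sp A A') _ V
  haveI i4 := fun V : ((sp A A' ⁻¹ᵁ U : (Spec (CommRingCat.of A')).Opens) : Scheme.{u}).Opens =>
    Groth.Agent.CurvesA.FlatH0.tower' (sp A A' ⁻¹ᵁ U).ι (sp A A')
      ((Scheme.Modules.pullback (sp A A' ∣_ U)).obj M) V
  have h2 := (isBC_iff_isBaseChange _).2 h1
  refine (Groth.Agent.CohqA.PullbackSections.isBC_congr_of_bijective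
    (M := (Gm A U).obj M) (M' := Γ(M, U.ι ⁻¹ᵁ ⊤))
    (N := (Gm A' (sp A A' ⁻¹ᵁ U)).obj ((Scheme.Modules.pullback (sp A A' ∣_ U)).obj M))
    (N' := Γ((Scheme.Modules.pullback (sp A A' ∣_ U)).obj M, (sp A A' ∣_ U) ⁻¹ᵁ (U.ι ⁻¹ᵁ ⊤)))
    (Scheme.ΓSpecIso (CommRingCat.of A)).inv.hom
    (ConcreteCategory.bijective_of_isIso (Scheme.ΓSpecIso (CommRingCat.of A)).inv)
    (Scheme.ΓSpecIso (CommRingCat.of A')).inv.hom
    (ConcreteCategory.bijective_of_isIso (Scheme.ΓSpecIso (CommRingCat.of A')).inv)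
    (AddMonoidHom.id _) Function.bijective_id ?_ (AddMonoidHom.id _) Function.bijective_id ?_
    ?_ ?_).2 h2
  · intro r x
    have e : U.ι.appLE ⊤ (U.ι ⁻¹ᵁ ⊤) (Groth.Agent.CurvesA.FlatH0.le_pt U.ι _) = U.ι.app ⊤ :=
      appLE_preimage_top U.ι _
    exact (congrArg (fun t : Γ((U : Scheme.{u}), U.ι ⁻¹ᵁ ⊤) => t • (show Γ(M, U.ι ⁻¹ᵁ ⊤) from x))
      (congr(($e).hom ((Scheme.ΓSpecIso (CommRingCat.of A)).inv r)))).symm
  · intro r x
    have e : (sp A A' ⁻¹ᵁ U).ι.appLE ⊤ ((sp A A' ∣_ U) ⁻¹ᵁ (U.ι ⁻¹ᵁ ⊤))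
        (Groth.Agent.CurvesA.FlatH0.le_pt (sp A A' ⁻¹ᵁ U).ι _) = (sp A A' ⁻¹ᵁ U).ι.app ⊤ :=
      appLE_preimage_top (sp A A' ⁻¹ᵁ U).ι _
    exact (congrArg (fun t : Γ((sp A A' ⁻¹ᵁ U : Scheme.{u}), (sp A A' ⁻¹ᵁ U).ι ⁻¹ᵁ ⊤) =>
      t • (show Γ((Scheme.Modules.pullback (sp A A' ∣_ U)).obj M, (sp A A' ⁻¹ᵁ U).ι ⁻¹ᵁ ⊤) from x))
      (congr(($e).hom ((Scheme.ΓSpecIso (CommRingCat.of A')).inv r)))).symm
  · ext a
    exact (congr(($(Scheme.ΓSpecIso_inv_naturality
      (CommRingCat.ofHom (algebraMap A A')))).hom a))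
  · ext x
    exact (Groth.Agent.PerfB.BCMod.map_self _ (V := (sp A A' ∣_ U) ⁻¹ᵁ (U.ι ⁻¹ᵁ ⊤))
      (homOfLE (le_refl _)) _).symm

theorem Gm_map_apply (U : (Spec (CommRingCat.of A)).Opens) {M N : (U : Scheme.{u}).Modules}
    (f : M ⟶ N) (x : (Gm A U).obj M) :
    ((Gm A U).map f).hom x = (f.app (U.ι ⁻¹ᵁ ⊤)).hom x := rfl

theorem unit_app_naturality {X Y : Scheme.{u}} (g : X ⟶ Y) {M N : Y.Modules} (f : M ⟶ N) (V : Y.Opens)
    (x : Γ(M, V)) :
    (((Scheme.Modules.pullbackPushforwardAdjunction g).unit.app N).app V).hom ((f.app V).hom x) =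
      (((Scheme.Modules.pullback g).map f).app (g ⁻¹ᵁ V)).hom
        ((((Scheme.Modules.pullbackPushforwardAdjunction g).unit.app M).app V).hom x) := by
  have h : f ≫ (Scheme.Modules.pullbackPushforwardAdjunction g).unit.app N =
      (Scheme.Modules.pullbackPushforwardAdjunction g).unit.app M ≫
        (Scheme.Modules.pushforward g).map ((Scheme.Modules.pullback g).map f) :=
    (Scheme.Modules.pullbackPushforwardAdjunction g).unit.naturality f
  have h2 := congrArg (fun t => (Scheme.Modules.Hom.app t V).hom x) h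
  exact h2

theorem uTop_naturality (U : (Spec (CommRingCat.of A)).Opens) {M N : (U : Scheme.{u}).Modules}
    (f : M ⟶ N) (x : (Gm A U).obj M) : uTop (A' := A') U N (((Gm A U).map f).hom x) =
      ((Gm A' (sp A A' ⁻¹ᵁ U)).map ((Scheme.Modules.pullback (sp A A' ∣_ U)).map f)).hom
        (uTop U M x) := by
  rw [Gm_map_apply, Gm_map_apply]
  exact unit_app_naturality (sp A A' ∣_ U) f (U.ι ⁻¹ᵁ ⊤) x

/-- `uTop` as a morphism. -/
noncomputable def uHom [Module.Flat A A'] (U : (Spec (CommRingCat.of A)).Opens)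
    (hU : IsCompact (U : Set (Spec (CommRingCat.of A)))) (M : (U : Scheme.{u}).Modules)
    (hM : Coh.IsQCoh M) : (Gm A U).obj M ⟶ (ModuleCat.restrictScalars (algebraMap A A')).obj
      ((Gm A' (sp A A' ⁻¹ᵁ U)).obj ((Scheme.Modules.pullback (sp A A' ∣_ U)).obj M)) :=
  homOf (algebraMap A A') (uTop U M) (isBC_uTop U hU M hM).map_smul

theorem comm_of (φ : A →+* A') {P Q : ModuleCat.{u} A} {P' Q' : ModuleCat.{u} A'} (p : P ⟶ Q)
    (u : P →+ P') (hu : ∀ (r : A) (x : P), u (r • x) = φ r • u x)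
    (v : Q →+ Q') (hv : ∀ (r : A) (x : Q), v (r • x) = φ r • v x) (p' : P' ⟶ Q')
    (h : ∀ x, v (p.hom x) = p'.hom (u x)) :
    p ≫ homOf φ v hv = homOf φ u hu ≫ (ModuleCat.restrictScalars φ).map p' := by
  ext x
  exact h x

theorem uHom_naturality [Module.Flat A A'] (U : (Spec (CommRingCat.of A)).Opens)
    (hU : IsCompact (U : Set (Spec (CommRingCat.of A)))) {M N : (U : Scheme.{u}).Modules}
    (hM : Coh.IsQCoh M) (hN : Coh.IsQCoh N) (f : M ⟶ N) :
    (Gm A U).map f ≫ uHom U hU N hN = uHom U hU M hM ≫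
      (ModuleCat.restrictScalars (algebraMap A A')).map
        ((Gm A' (sp A A' ⁻¹ᵁ U)).map ((Scheme.Modules.pullback (sp A A' ∣_ U)).map f)) :=
  comm_of (algebraMap A A') ((Gm A U).map f) (uTop U M) (isBC_uTop U hU M hM).map_smul (uTop U N)
    (isBC_uTop U hU N hN).map_smul _ (uTop_naturality U f)

/-- Flat base change of `sectMod`. -/
noncomputable def sectModIso [Module.Flat A A'] (U : (Spec (CommRingCat.of A)).Opens)
    (hU : IsCompact (U : Set (Spec (CommRingCat.of A)))) (G : ℕᵒᵖ ⥤ (U : Scheme.{u}).Modules)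
    (hG : ∀ n, Coh.IsQCoh (G.obj n)) :
    Algz.sectMod A U G ⋙ ModuleCat.extendScalars.{u, u, u} (algebraMap A A') ≅
      Algz.sectMod A' (sp A A' ⁻¹ᵁ U) (G ⋙ Scheme.Modules.pullback (sp A A' ∣_ U)) :=
  NatIso.ofComponents (fun n =>
      @asIso _ _ _ _ (((ModuleCat.extendRestrictScalarsAdj (algebraMap A A')).homEquiv _ _).symm
        (uHom U hU (G.obj n) (hG n))) ((isIso_extend_iff (algebraMap A A')
        (ModuleCat.extendRestrictScalarsAdj (algebraMap A A')) (uHom U hU (G.obj n) (hG n))).2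
          (isBC_uTop U hU (G.obj n) (hG n)))) (fun {n m} f => by
    have h1 := (ModuleCat.extendRestrictScalarsAdj (algebraMap A A')).homEquiv_naturality_left_symm
      ((Gm A U).map (G.map f)) (uHom U hU (G.obj m) (hG m))
    have h2 := (ModuleCat.extendRestrictScalarsAdj (algebraMap A A')).homEquiv_naturality_right_symm
      (uHom U hU (G.obj n) (hG n))
      ((Gm A' (sp A A' ⁻¹ᵁ U)).map ((Scheme.Modules.pullback (sp A A' ∣_ U)).map (G.map f)))
    rw [← uHom_naturality U hU (hG n) (hG m)] at h2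
    exact h1.symm.trans h2)

theorem canonicallyExtends_baseChange [Module.Flat A A'] (I : Ideal A)
    (U : (Spec (CommRingCat.of A)).Opens) (hU : IsCompact (U : Set (Spec (CommRingCat.of A))))
    (G : ℕᵒᵖ ⥤ (U : Scheme.{u}).Modules) (hG : ∀ n, Coh.IsQCoh (G.obj n))
    (h : Algz.CanonicallyExtends A I U G) :
    Algz.CanonicallyExtends A' (I.map (algebraMap A A')) (sp A A' ⁻¹ᵁ U)
      (G ⋙ Scheme.Modules.pullback (sp A A' ∣_ U)) := by
  rw [Canon.canonicallyExtends_iff] at h ⊢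
  obtain ⟨T, hT, hp⟩ := h
  refine ⟨T ⋙ ModuleCat.extendScalars.{u, u, u} (algebraMap A A'), isAdicMod_extend _ hT, ?_⟩
  exact ProIso.isProIsomorphic_iso_left (ProIso.isProIsomorphic_map _ hp)
    (sectModIso U hU G hG).symm

end Geom

end K573.FlatBC
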