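import Groth.Agent.Algz.K573.Compl
import Groth.Agent.Algz.K572.Hat

/-!
# Completed stalks of the completion of a coherent module
-/

set_option autoImplicit false
universe u

open CategoryTheory CategoryTheory.Limits AlgebraicGeometry Opposite

namespace K573.HatCompl

section Alg

variable {B : Type u} [CommRing B] {J : Ideal B} (S : Groth.Agent.FormalB.AdicAlg.Sys B J)
  {N : Type u} [AddCommGroup N] [Module B N] (q : ∀ n, N →ₗ[B] S.M n)
  (hq : ∀ n, Function.Surjective (q n)) (hker : ∀ n, LinearMap.ker (q n) = J ^ (n + 1) • ⊤)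
  (hf : ∀ n x, S.f n (q (n + 1) x) = q n x)

/-- The comparison map. -/
noncomputable def toHat : AdicCompletion J N →ₗ[AdicCompletion J B] K572.HatAlg.hatSub S where
  toFun x := ⟨fun n => AdicCompletion.map J (q n) x, fun n => by
    have h1 : (S.f n).comp (q (n + 1)) = q n := LinearMap.ext (hf n)
    have h2 := AdicCompletion.map_comp_apply (I := J) (q (n + 1)) (S.f n) x
    rw [h1] at h2
    exact h2⟩
  map_add' x y := by
    apply Subtype.ext
    funext n
    exact map_add _ x y
  map_smul' c x := by
    apply Subtype.ext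
    funext n
    exact map_smul (AdicCompletion.map J (q n)) c x

theorem toHat_apply (x : AdicCompletion J N) (n : ℕ) :
    (toHat S q hf x).1 n = AdicCompletion.map J (q n) x := rfl

include hker in
theorem toHat_injective : Function.Injective (toHat S q hf) := by
  rw [injective_iff_map_eq_zero]
  intro x hx
  apply AdicCompletion.ext
  intro n
  have key : x.val (n + 1) = 0 := by
    obtain ⟨w, hw⟩ := Submodule.Quotient.mk_surjective _ (x.val (n + 1))
    have h1 : AdicCompletion.map J (q n) x = 0 := by
      rw [← toHat_apply S q hf, hx]; rfl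
    have h2 : (AdicCompletion.map J (q n) x).val (n + 1) = 0 := by rw [h1]; rfl
    have h3 : (AdicCompletion.map J (q n) x).val (n + 1) =
        (Submodule.Quotient.mk (q n w) : S.M n ⧸ (J ^ (n + 1) • ⊤ : Submodule B (S.M n))) := by
      rw [AdicCompletion.map_val_apply, ← hw]
      rfl
    rw [h3, Submodule.Quotient.mk_eq_zero, S.killed n, Submodule.mem_bot] at h2
    rw [← hw, Submodule.Quotient.mk_eq_zero, ← hker n]
    exact h2
  have h4 := AdicCompletion.transitionMap_comp_eval_apply J (M := N) (Nat.le_succ n) x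
  have h5 : x.val n = AdicCompletion.transitionMap J N (Nat.le_succ n) (x.val (n + 1)) := h4.symm
  rw [h5, key, map_zero]
  rfl

include hker hq in
theorem toHat_surjective : Function.Surjective (toHat S q hf) := by
  intro y
  choose z hz using fun n => (K572.HatAlg.of_bijective (S.killed n)).2 (y.1 n)
  have hz' : ∀ n, S.f n (z (n + 1)) = z n := fun n => by
    apply (K572.HatAlg.of_bijective (S.killed n)).1
    rw [← AdicCompletion.map_of, hz, hz]
    exact y.2 n
  choose w hw using fun n => hq n (z n)
  have hw' : ∀ n, w n ≡ w (n + 1) [SMOD (J ^ n • ⊤ : Submodule B N)] := by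
    intro n
    rw [SModEq.sub_mem]
    have h1 : w n - w (n + 1) ∈ LinearMap.ker (q n) := by
      rw [LinearMap.mem_ker, map_sub, hw, ← hf, hw, hz', sub_self]
    rw [hker n] at h1
    exact Submodule.smul_mono_left (Ideal.pow_le_pow_right (Nat.le_succ n)) h1
  refine ⟨AdicCompletion.mk J N (AdicCompletion.AdicCauchySequence.mk J N w hw'),
    Subtype.ext (funext fun n => ?_)⟩
  rw [toHat_apply, ← hz n]
  apply K572.HatAlg.eq_of_val (S.killed n)
  rw [AdicCompletion.map_val_apply]
  change (Submodule.Quotient.mk (q n (w (n + 1))) : S.M n ⧸ (J ^ (n + 1) • ⊤ : Submodule B (S.M n))) =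
    Submodule.Quotient.mk (z n)
  rw [← hf, hw, hz']

end Alg

section Stalk

open Groth.Agent.CycB.StalkExact Groth.Agent.FormalB.ModPow

variable {A : Type u} [CommRing A] [IsNoetherianRing A] {X : Scheme.{u}}
  [X.Over (Spec (CommRingCat.of A))] {I : Ideal A} [IsNoetherian X]

/-- The completed stalk of a completion. -/
theorem nonempty_hatEquiv (F : X.Modules) (hF : Coh.IsCoh F) (y : X) :
    Nonempty (AdicCompletion (Algz.stalkIdeal I y) (F.presheaf.stalk y) ≃ₗ[Algz.hatRing I y]
      Algz.hatStalk I (Formal.completion I F) y) := by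
  have hG : Formal.IsCohFormal I (Formal.completion I F) := Compl.isCohFormal_completion I hF
  have hk : ∀ n, LinearMap.ker (stalkLin (cπ I F n) y) = Algz.stalkIdeal I y ^ (n + 1) •
      (⊤ : Submodule (X.presheaf.stalk y) (F.presheaf.stalk y)) := fun n => by
    rw [Algz.stalkIdeal, ← Ideal.map_pow]
    exact K572.Hat.ker_stalkLin (IsNoetherian.noetherian _) (isModPow_cπ I F n) y
  have hs : ∀ n, Function.Surjective (stalkLin (cπ I F n) y) := fun n =>
    stalkLin_surjective (cπ I F n) y
  have hf : ∀ n x, (K572.Hat.sysAt hG y).f n (stalkLin (cπ I F (n + 1)) y x) =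
      stalkLin (cπ I F n) y x := fun n x => by
    rw [K572.Hat.sysAt_f, ← LinearMap.comp_apply, ← stalkLin_comp, cπ_map_succ]
  exact ⟨LinearEquiv.ofBijective (toHat (K572.Hat.sysAt hG y) (fun n => stalkLin (cπ I F n) y) hf)
    ⟨toHat_injective _ _ hk _, toHat_surjective _ _ hs hk _⟩⟩

end Stalk

end K573.HatCompl
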