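import Groth.Agent.Algz.K573.Epi

/-!
# Injectivity in the limit of `(M/I^n M)~|_U → F_n`
-/

set_option autoImplicit false
universe u

open CategoryTheory CategoryTheory.Limits AlgebraicGeometry Opposite
open Groth.Agent.FormalB.ModPow Groth.Agent.FormalB.AdicSys K573.TildeSys K573.ModLim
open Groth.Agent.FormalB.PuncTheta Groth.Agent.FormalB.PuncTheta2

namespace K573.Inj

section Ring

variable {R : CommRingCat.{u}}

theorem app_top_symm (N : ModuleCat.{u} R) (M : (Spec R).Modules)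
    (ℓ : N ⟶ (moduleSpecΓFunctor (R := R)).obj M) (q : N) :
    (((tilde.adjunction (R := R)).homEquiv N M).symm ℓ).app ⊤ ((tilde.toOpen N ⊤).hom q) = ℓ.hom q := by
  have h := (tilde.adjunction (R := R)).homEquiv_unit
    (f := ((tilde.adjunction (R := R)).homEquiv N M).symm ℓ)
  rw [Equiv.apply_symm_apply] at h
  exact (congr(($h).hom q)).symm

theorem exists_pow_smul_eq_zero (N : ModuleCat.{u} R) (M : (Spec R).Modules) (hM : Coh.IsQCoh M)
    (ℓ : N ⟶ (moduleSpecΓFunctor (R := R)).obj M) (f : R) (q : N)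
    (h : (((tilde.adjunction (R := R)).homEquiv N M).symm ℓ).app (PrimeSpectrum.basicOpen f)
      ((tilde.toOpen N (PrimeSpectrum.basicOpen f)).hom q) = 0) :
    ∃ b : ℕ, f ^ b • (show Γ(M, ⊤) from ℓ.hom q) = 0 := by
  have hloc := Groth.Agent.CohqB.FiniteType2.isLocalizedModule_resLinear M f
  have h1 : Groth.Agent.CohqB.FiniteType2.resLinear M (PrimeSpectrum.basicOpen f)
      (show Γ(M, ⊤) from ℓ.hom q) = 0 := by
    rw [← app_top_symm N M ℓ q, Groth.Agent.CohqB.FiniteType2.resLinear_apply]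
    set φ := ((tilde.adjunction (R := R)).homEquiv N M).symm ℓ
    have h2 := φ.mapPresheaf.naturality (PrimeSpectrum.basicOpen f : (Spec R).Opens).leTop.op
    have h3 := congr(($h2).hom ((tilde.toOpen N ⊤).hom q))
    refine Eq.trans h3.symm ?_
    have h4 : (tilde N).presheaf.map (PrimeSpectrum.basicOpen f : (Spec R).Opens).leTop.op
        ((tilde.toOpen N ⊤).hom q) = (tilde.toOpen N (PrimeSpectrum.basicOpen f)).hom q := rfl
    exact (congrArg _ h4).trans h
  obtain ⟨⟨_, b, rfl⟩, hb⟩ := (IsLocalizedModule.eq_zero_iff (Submonoid.powers f)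
    (Groth.Agent.CohqB.FiniteType2.resLinear M (PrimeSpectrum.basicOpen f))).1 h1
  exact ⟨b, hb⟩

theorem app_smul {M N : (Spec R).Modules} (φ : M ⟶ N) (V : (Spec R).Opens) (r : R) (x : Γ(M, V)) :
    φ.app V (r • x) = r • φ.app V x :=
  ((modulesSpecToSheaf.map φ).hom.app (op V)).hom.map_smul r x

/-- The main argument, over `Spec R`. -/
theorem eq_zero_of (I : Ideal R) (L : Type u) [AddCommGroup L] [Module R L]
    (M : ℕ → (Spec R).Modules) (hM : ∀ n, Coh.IsQCoh (M n))
    (ℓ : ∀ n, ModuleCat.of R (L ⧸ (I ^ (n + 1) • (⊤ : Submodule R L))) ⟶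
      (moduleSpecΓFunctor (R := R)).obj (M n))
    (hker : ∀ n (y : L), (ℓ n).hom (Submodule.Quotient.mk y) = 0 → ∀ k, k ≤ n →
      (ℓ k).hom (Submodule.Quotient.mk y) = 0)
    (hb : ∀ n, ∃ k, ∀ y : L, (ℓ k).hom (Submodule.Quotient.mk y) = 0 →
      y ∈ (I ^ (n + 1) • (⊤ : Submodule R L)))
    (t : ∀ n, ModuleCat.of R (L ⧸ (I ^ (n + 1 + 1) • (⊤ : Submodule R L))) ⟶
      ModuleCat.of R (L ⧸ (I ^ (n + 1) • (⊤ : Submodule R L))))
    (ht : ∀ n (y : L), (t n).hom (Submodule.Quotient.mk y) = Submodule.Quotient.mk y)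
    (f : R)
    (x : ∀ n, Γ(tilde (ModuleCat.of R (L ⧸ (I ^ (n + 1) • (⊤ : Submodule R L)))), PrimeSpectrum.basicOpen f))
    (hx : ∀ n, (tilde.map (t n)).app (PrimeSpectrum.basicOpen f) (x (n + 1)) = x n)
    (hx0 : ∀ n, (((tilde.adjunction (R := R)).homEquiv _ (M n)).symm (ℓ n)).app
      (PrimeSpectrum.basicOpen f) (x n) = 0) (n : ℕ) : x n = 0 := by
  obtain ⟨k, hk⟩ := hb n
  obtain ⟨d, hd⟩ : ∃ d, k ≤ n + d := ⟨k, Nat.le_add_left k n⟩
  have hl : ∀ n, IsLocalizedModule (Submonoid.powers f)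
      (tilde.toOpen (ModuleCat.of R (L ⧸ (I ^ (n + 1) • (⊤ : Submodule R L))))
      (PrimeSpectrum.basicOpen f)).hom := fun n => isLocalizedModule_toOpen R _ f
  have hld := hl (n + d)
  have hln := hl n
  obtain ⟨⟨q, ⟨_, a, rfl⟩⟩, hq⟩ := hld.surj (x (n + d))
  have hq' : f ^ a • x (n + d) = (tilde.toOpen (ModuleCat.of R (L ⧸ (I ^ (n + d + 1) • (⊤ : Submodule R L))))
      (PrimeSpectrum.basicOpen f)).hom q := hq
  obtain ⟨y, rfl⟩ := Submodule.Quotient.mk_surjective _ q
  have h1 : (((tilde.adjunction (R := R)).homEquiv _ (M (n + d))).symm (ℓ (n + d))).app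
      (PrimeSpectrum.basicOpen f) ((tilde.toOpen _ (PrimeSpectrum.basicOpen f)).hom
        (Submodule.Quotient.mk y : L ⧸ (I ^ (n + d + 1) • (⊤ : Submodule R L)))) = 0 := by
    rw [← hq']
    exact (app_smul _ _ _ _).trans ((congrArg _ (hx0 (n + d))).trans (smul_zero _))
  obtain ⟨b, hb'⟩ := exists_pow_smul_eq_zero _ (M (n + d)) (hM _) (ℓ (n + d)) f _ h1
  have h2 : (ℓ (n + d)).hom (Submodule.Quotient.mk (f ^ b • y)) = 0 := by
    exact ((ℓ (n + d)).hom.map_smul (f ^ b) (Submodule.Quotient.mk y)).trans hb'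
  have h3 : (f ^ b • y) ∈ (I ^ (n + 1) • (⊤ : Submodule R L)) := hk _ (hker _ _ h2 k hd)
  have key : ∀ d : ℕ, f ^ a • x (n + d) =
      (tilde.toOpen (ModuleCat.of R (L ⧸ (I ^ (n + d + 1) • (⊤ : Submodule R L))))
      (PrimeSpectrum.basicOpen f)).hom (Submodule.Quotient.mk y) →
      f ^ a • x n = (tilde.toOpen (ModuleCat.of R (L ⧸ (I ^ (n + 1) • (⊤ : Submodule R L))))
      (PrimeSpectrum.basicOpen f)).hom (Submodule.Quotient.mk y) := by
    intro d
    induction d with
    | zero => exact fun h => h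
    | succ d ih =>
      intro h
      apply ih
      have h5 := congrArg ((tilde.map (t (n + d))).app (PrimeSpectrum.basicOpen f)) h
      have h6 : (tilde.map (t (n + d))).app (PrimeSpectrum.basicOpen f) (f ^ a • x (n + (d + 1))) =
          f ^ a • x (n + d) := (app_smul _ _ _ _).trans (congrArg _ (hx (n + d)))
      refine h6.symm.trans (h5.trans ?_)
      refine (tilde_map_app_toOpen (t (n + d)) (PrimeSpectrum.basicOpen f) _).trans ?_
      exact congrArg _ (ht (n + d) y)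
  have h4 := key d hq'
  have h5 : f ^ b • (f ^ a • x n) = 0 := by
    rw [h4]
    refine ((tilde.toOpen (ModuleCat.of R (L ⧸ (I ^ (n + 1) • (⊤ : Submodule R L))))
      (PrimeSpectrum.basicOpen f)).hom.map_smul (f ^ b) (Submodule.Quotient.mk y)).symm.trans ?_
    have : f ^ b • (Submodule.Quotient.mk y : L ⧸ (I ^ (n + 1) • (⊤ : Submodule R L))) = 0 := by
      rw [← Submodule.Quotient.mk_smul]
      exact (Submodule.Quotient.mk_eq_zero _).2 h3
    rw [this]
    exact map_zero _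
  rw [smul_smul, ← pow_add] at h5
  have hinj := IsLocalizedModule.smul_injective (S := Submonoid.powers f)
    (tilde.toOpen (ModuleCat.of R (L ⧸ (I ^ (n + 1) • (⊤ : Submodule R L))))
      (PrimeSpectrum.basicOpen f)).hom (⟨f ^ (b + a), b + a, rfl⟩ : Submonoid.powers f)
  exact hinj (h5.trans (smul_zero _).symm)

end Ring

end K573.Inj
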