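import Groth.Agent.Algz.K573.TildeSys
import Mathlib.Algebra.Category.ModuleCat.Abelian

/-!
# Limits, Mittag-Leffler and pro-isomorphisms for systems of modules
-/

set_option autoImplicit false
universe u

open CategoryTheory CategoryTheory.Limits Opposite
open Groth.Agent.FormalB.AdicSys K573.TildeSys

namespace K573.ModLim

variable {A : Type u} [CommRing A]

section Image

variable {X Y Z : ModuleCat.{u} A}

theorem exists_lift (i : Y ⟶ Z) [Mono i] (f : X ⟶ Z)
    (h : LinearMap.range f.hom ≤ LinearMap.range i.hom) : ∃ g : X ⟶ Y, g ≫ i = f := by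
  have hi : Function.Injective i.hom := (ModuleCat.mono_iff_injective i).1 inferInstance
  let e : Y ≃ₗ[A] LinearMap.range i.hom := LinearEquiv.ofInjective i.hom hi
  let f' : X →ₗ[A] LinearMap.range i.hom := f.hom.codRestrict _ (fun x => h ⟨x, rfl⟩)
  refine ⟨ModuleCat.ofHom (e.symm.toLinearMap ∘ₗ f'), ?_⟩
  ext x
  have h1 : i.hom (e.symm (f' x)) = (e (e.symm (f' x))).1 := rfl
  change i.hom (e.symm (f' x)) = f.hom x
  rw [h1, LinearEquiv.apply_symm_apply]
  rfl

theorem range_image_arrow (f : X ⟶ Z) :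
    LinearMap.range (imageSubobject f).arrow.hom = LinearMap.range f.hom := by
  have h1 := imageSubobject_arrow_comp f
  have hs : Function.Surjective (factorThruImageSubobject f).hom :=
    (ModuleCat.epi_iff_surjective _).1 inferInstance
  apply le_antisymm
  · rintro _ ⟨y, rfl⟩
    obtain ⟨x, rfl⟩ := hs y
    exact ⟨x, congr(($h1).hom x).symm⟩
  · rintro _ ⟨x, rfl⟩
    exact ⟨_, congr(($h1).hom x)⟩

theorem imageSubobject_le_iff (f : X ⟶ Z) (g : Y ⟶ Z) :
    imageSubobject f ≤ imageSubobject g ↔ LinearMap.range f.hom ≤ LinearMap.range g.hom := by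
  constructor
  · intro h
    rw [← range_image_arrow f, ← range_image_arrow g, ← Subobject.ofLE_arrow h]
    rintro _ ⟨y, rfl⟩
    exact ⟨_, rfl⟩
  · intro h
    rw [← range_image_arrow g] at h
    obtain ⟨k, hk⟩ := exists_lift (imageSubobject g).arrow f h
    exact imageSubobject_le f k hk

theorem imageSubobject_eq_iff (f : X ⟶ Z) (g : Y ⟶ Z) :
    imageSubobject f = imageSubobject g ↔ LinearMap.range f.hom = LinearMap.range g.hom := by
  rw [le_antisymm_iff, le_antisymm_iff, imageSubobject_le_iff, imageSubobject_le_iff]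

end Image

variable (S T : ARSys.PS (ModuleCat.{u} A))

theorem tr_tr_apply {a b c : ℕ} (h : a ≤ b) (h' : b ≤ c) (x : S.obj (op c)) :
    (ARSys.tr S h).hom ((ARSys.tr S h').hom x) = (ARSys.tr S (h.trans h')).hom x :=
  congr(($(ProIso.tr_trans S h h')).hom x)

theorem tr_self_apply {a : ℕ} (h : a ≤ a) (x : S.obj (op a)) : (ARSys.tr S h).hom x = x :=
  congr(($(ProIso.tr_self S h)).hom x)

theorem trans_eq_tr {m n : ℕ} (h : m ≤ n) (x : S.obj (op n)) :
    trans (M := fun n => S.obj (op n)) (tmap S) h x = (ARSys.tr S h).hom x := by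
  induction n, h using Nat.le_induction with
  | base => rw [trans_self_apply, tr_self_apply]
  | succ n hn ih =>
    rw [trans_succ_apply _ hn, ih]
    exact tr_tr_apply S hn (Nat.le_succ n) x

theorem range_tr_mono {a b c : ℕ} (h : a ≤ b) (h' : b ≤ c) :
    LinearMap.range (ARSys.tr S (h.trans h')).hom ≤ LinearMap.range (ARSys.tr S h).hom := by
  rintro _ ⟨x, rfl⟩
  exact ⟨_, tr_tr_apply S h h' x⟩

/-- The Mittag-Leffler condition for systems of modules. -/
theorem isML_iff : ARSys.IsML S ↔ ∀ n : ℕ, ∃ (N : ℕ) (h : n ≤ N), ∀ (K : ℕ) (hK : N ≤ K),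
    LinearMap.range (ARSys.tr S h).hom ≤ LinearMap.range (ARSys.tr S (h.trans hK)).hom := by
  constructor
  · intro h n
    obtain ⟨r, hr⟩ := h n
    refine ⟨n + r, Nat.le_add_right n r, fun K hK => ?_⟩
    obtain ⟨s, rfl⟩ := Nat.exists_eq_add_of_le hK
    have h1 := (imageSubobject_eq_iff _ _).1 (hr (r + s) (Nat.le_add_right r s))
    have h2 : ∀ (K K' : ℕ) (e : K = K') (hK : n ≤ K) (hK' : n ≤ K'),
        LinearMap.range (ARSys.tr S hK).hom = LinearMap.range (ARSys.tr S hK').hom := by
      rintro K _ rfl _ _; rfl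
    refine (h1.symm.trans ?_).le
    exact h2 _ _ (Nat.add_assoc n r s).symm _ _
  · intro h n
    obtain ⟨N, hN, h1⟩ := h n
    obtain ⟨r, rfl⟩ := Nat.exists_eq_add_of_le hN
    refine ⟨r, fun s hs => ?_⟩
    rw [imageSubobject_eq_iff]
    exact le_antisymm (range_tr_mono S (Nat.le_add_right n r) (Nat.add_le_add_left hs n))
      (h1 (n + s) (Nat.add_le_add_left hs n))

/-- The concrete limit. -/
abbrev L : Submodule A (∀ n, S.obj (op n)) := Lim (M := fun n => S.obj (op n)) (tmap S)

variable {S T} in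
theorem L_tr (x : L S) {m n : ℕ} (h : m ≤ n) : (ARSys.tr S h).hom (x.1 n) = x.1 m := by
  rw [← trans_eq_tr]
  exact Lim.trans_compat x h

/-- The cone given by the concrete limit. -/
noncomputable def coneL : Cone S where
  pt := ModuleCat.of A (L S)
  π :=
    { app := fun n => ModuleCat.ofHom (Lim.proj (M := fun n => S.obj (op n)) (tmap S) n.unop)
      naturality := by
        rintro ⟨n⟩ ⟨m⟩ f
        ext x
        exact (L_tr x (leOfHom f.unop)).symm }

/-- It is a limit cone. -/
noncomputable def isLimitConeL : IsLimit (coneL S) where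
  lift s := ModuleCat.ofHom
    { toFun := fun x => ⟨fun n => (s.π.app (op n)).hom x, fun n =>
        congr(($(s.w (homOfLE (Nat.le_succ n)).op)).hom x)⟩
      map_add' := fun x y => Subtype.ext (funext fun n => map_add _ x y)
      map_smul' := fun a x => Subtype.ext (funext fun n => map_smul _ a x) }
  fac s j := by
    ext x
    rfl
  uniq s m hm := by
    ext x
    refine Subtype.ext (funext fun n => ?_)
    exact congr(($(hm (op n))).hom x)

/-- The limit in `ModuleCat` is the concrete limit. -/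
noncomputable def limEquiv : (limit S : ModuleCat.{u} A) ≃ₗ[A] L S :=
  (IsLimit.conePointUniqueUpToIso (limit.isLimit S) (isLimitConeL S)).toLinearEquiv

theorem limEquiv_apply (x : (limit S : ModuleCat.{u} A)) (n : ℕ) :
    (limEquiv S x).1 n = (limit.π S (op n)).hom x :=
  congr(($(IsLimit.conePointUniqueUpToIso_hom_comp (limit.isLimit S) (isLimitConeL S) (op n))).hom x)

theorem limEquiv_symm_apply (x : L S) (n : ℕ) :
    (limit.π S (op n)).hom ((limEquiv S).symm x) = x.1 n := by
  rw [← limEquiv_apply, LinearEquiv.apply_symm_apply]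

theorem limEquiv_mem_smul (J : Ideal A) (x : (limit S : ModuleCat.{u} A)) :
    x ∈ (J • ⊤ : Submodule A (limit S : ModuleCat.{u} A)) ↔ limEquiv S x ∈ (J • ⊤ : Submodule A (L S)) := by
  have h : (J • ⊤ : Submodule A (L S)) =
      Submodule.map (limEquiv S).toLinearMap (J • ⊤ : Submodule A (limit S : ModuleCat.{u} A)) := by
    rw [Submodule.map_smul'', Submodule.map_top, LinearEquiv.range]
  rw [h]
  constructor
  · intro hx
    exact Submodule.mem_map_of_mem hx
  · rintro ⟨y, hy, hxy⟩
    have : y = x := (limEquiv S).injective hxy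
    rwa [← this]

/-- Lifting stable images to the limit. -/
theorem exists_of_isML (h : ARSys.IsML S) (n : ℕ) : ∃ (N : ℕ) (hN : n ≤ N),
    ∀ y : S.obj (op N), ∃ x : L S, x.1 n = (ARSys.tr S hN).hom y := by
  rw [isML_iff] at h
  choose N hN hr using h
  refine ⟨N n, hN n, fun y => ?_⟩
  obtain ⟨x, hx, -⟩ := exists_lim (M := fun n => S.obj (op n)) (tmap S)
    (fun m z => ∀ (K : ℕ) (hK : m ≤ K), z ∈ LinearMap.range (ARSys.tr S hK).hom) n
    (by
      intro m _ z hz
      obtain ⟨w, hw⟩ := hz (N (m + 1)) ((Nat.le_succ m).trans (hN (m + 1)))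
      refine ⟨(ARSys.tr S (hN (m + 1))).hom w, ?_, ?_⟩
      · rw [← hw]
        exact tr_tr_apply S (Nat.le_succ m) (hN (m + 1)) w
      · intro K hK
        rcases le_total (N (m + 1)) K with hc | hc
        · exact hr (m + 1) K hc ⟨w, rfl⟩
        · exact range_tr_mono S hK hc ⟨w, rfl⟩)
    ((ARSys.tr S (hN n)).hom y)
    (by
      intro K hK
      rcases le_total (N n) K with hc | hc
      · exact hr n K hc ⟨y, rfl⟩
      · exact range_tr_mono S hK hc ⟨y, rfl⟩)
  exact ⟨x, hx⟩

variable {S T}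

section Pro

variable {m : ℕ → ℕ} (hm : Monotone m) (hle : ∀ n, n ≤ m n) (a : DerCA.reindex S hm ⟶ T)

theorem reindex_tr_apply {i j : ℕ} (h : i ≤ j) (x : S.obj (op (m j))) :
    (ARSys.tr (DerCA.reindex S hm) h).hom x = (ARSys.tr S (hm h)).hom x := rfl

/-- The component `S_{m n} → T_n`. -/
noncomputable def ac (n : ℕ) : S.obj (op (m n)) →ₗ[A] T.obj (op n) := (a.app (op n)).hom

theorem ac_nat {i j : ℕ} (h : i ≤ j) (x : S.obj (op (m j))) :
    ac hm a i ((ARSys.tr S (hm h)).hom x) = (ARSys.tr T h).hom (ac hm a j x) :=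
  congr(($(a.naturality (homOfLE h).op)).hom x)

/-- A pro-isomorphism onto a system with surjective transition maps: the source is Mittag-Leffler. -/
theorem isML_of_isProIso (ha : DerCA.IsProIso a)
    (hT : ∀ (i j : ℕ) (h : i ≤ j), Function.Surjective (ARSys.tr T h).hom) (hle : ∀ n, n ≤ m n) :
    ARSys.IsML S := by
  rw [isML_iff]
  intro n
  obtain ⟨k, hk, b, h1, h2⟩ := ha n
  have h1' : ∀ x, b.hom (ac hm a k x) = (ARSys.tr S (hm hk)).hom x := fun x => congr(($h1).hom x)
  have key : ∀ (K : ℕ) (hK : m k ≤ K) (w : T.obj (op k)),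
      b.hom w ∈ LinearMap.range (ARSys.tr S ((hm hk).trans hK)).hom := by
    intro K hK w
    -- go out to `k' ≥ K, k`
    obtain ⟨j, hj, b', -, h3⟩ := ha (max k K)
    have h3' : ∀ x, ac hm a (max k K) (b'.hom x) = (ARSys.tr T hj).hom x := fun x => congr(($h3).hom x)
    obtain ⟨v, rfl⟩ := hT k j ((le_max_left k K).trans hj) w
    have h4 : b.hom ((ARSys.tr T ((le_max_left k K).trans hj)).hom v) =
        (ARSys.tr S (hm (hk.trans (le_max_left k K)))).hom (b'.hom v) := by
      rw [← tr_tr_apply T (le_max_left k K) hj, ← h3', ← ac_nat hm a (le_max_left k K), h1',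
        tr_tr_apply]
    rw [h4]
    exact range_tr_mono S ((hm hk).trans hK) ((le_max_right k K).trans (hle _)) ⟨_, rfl⟩
  refine ⟨m k, (hle n).trans (hm hk), fun K hK => ?_⟩
  rintro _ ⟨x, rfl⟩
  have h5 : (ARSys.tr S ((hle n).trans (hm hk))).hom x =
      (ARSys.tr S (hle n)).hom (b.hom (ac hm a k x)) := by
    rw [h1', tr_tr_apply]
  obtain ⟨z, hz⟩ := key K hK (ac hm a k x)
  exact ⟨z, by rw [h5, ← hz, tr_tr_apply]⟩

/-- The map on limits. -/
noncomputable def limMapPro : L S →ₗ[A] L T where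
  toFun x := ⟨fun n => ac hm a n (x.1 (m n)), fun n => by
    have h1 := ac_nat hm a (Nat.le_succ n) (x.1 (m (n + 1)))
    rw [L_tr] at h1
    exact h1.symm⟩
  map_add' x y := Subtype.ext (funext fun n => map_add _ _ _)
  map_smul' c x := Subtype.ext (funext fun n => map_smul _ _ _)

theorem limMapPro_apply (x : L S) (n : ℕ) : (limMapPro hm a x).1 n = ac hm a n (x.1 (m n)) := rfl

include hle in
theorem limMapPro_injective (ha : DerCA.IsProIso a) : Function.Injective (limMapPro hm a) := by
  rw [injective_iff_map_eq_zero]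
  intro x hx
  refine Subtype.ext (funext fun n => ?_)
  obtain ⟨k, hk, b, h1, -⟩ := ha n
  have h1' : ∀ x, b.hom (ac hm a k x) = (ARSys.tr S (hm hk)).hom x := fun x => congr(($h1).hom x)
  have h2 : ac hm a k (x.1 (m k)) = 0 := congrFun (congrArg Subtype.val hx) k
  have h3 := h1' (x.1 (m k))
  rw [h2, map_zero, L_tr] at h3
  have h4 : x.1 (m n) = 0 := h3.symm
  rw [← L_tr x (hle n), h4, map_zero]
  rfl

theorem limMapPro_surjective (ha : DerCA.IsProIso a) (hle : ∀ n, n ≤ m n) :
    Function.Surjective (limMapPro hm a) := by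
  intro y
  choose k hk b h1 h2 using ha
  have h1' : ∀ n x, (b n).hom (ac hm a (k n) x) = (ARSys.tr S (hm (hk n))).hom x :=
    fun n x => congr(($(h1 n)).hom x)
  have h2' : ∀ n x, ac hm a n ((b n).hom x) = (ARSys.tr T (hk n)).hom x :=
    fun n x => congr(($(h2 n)).hom x)
  let z : ∀ n, S.obj (op (m n)) := fun n => (b n).hom (y.1 (k n))
  have hz : ∀ n, ac hm a n (z n) = y.1 n := fun n => by rw [h2', L_tr]
  have hzK : ∀ (n K : ℕ) (h : k n ≤ K), (ARSys.tr S (hm ((hk n).trans h))).hom (z K) = z n := by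
    intro n K h
    have e1 : (ARSys.tr S (hm ((hk n).trans h))).hom (z K) =
        (ARSys.tr S (hm (hk n))).hom ((ARSys.tr S (hm h)).hom (z K)) := (tr_tr_apply S _ _ _).symm
    rw [e1, ← h1', ac_nat hm a h, hz, L_tr]
  have hzz : ∀ (n n' : ℕ) (h : n ≤ n'), (ARSys.tr S (hm h)).hom (z n') = z n := by
    intro n n' h
    rw [← hzK n (max (k n) (k n')) (le_max_left _ _), ← hzK n' (max (k n) (k n')) (le_max_right _ _),
      tr_tr_apply]
  refine ⟨⟨fun n => (ARSys.tr S (hle n)).hom (z n), fun n => ?_⟩, ?_⟩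
  · change (ARSys.tr S (Nat.le_succ n)).hom ((ARSys.tr S (hle (n + 1))).hom (z (n + 1))) =
      (ARSys.tr S (hle n)).hom (z n)
    rw [tr_tr_apply, ← hzz n (n + 1) (Nat.le_succ n), tr_tr_apply]
  · refine Subtype.ext (funext fun n => ?_)
    rw [limMapPro_apply]
    have e1 : (ARSys.tr S (hle (m n))).hom (z (m n)) = z n := hzz n (m n) (hle n)
    change ac hm a n ((ARSys.tr S (hle (m n))).hom (z (m n))) = _
    rw [e1, hz]

/-- Topology: if `T` is adic, elements of the limit of `S` vanishing far out are in `I^k`. -/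
theorem mem_of_isProIso {I : Ideal A} (hI : I.FG) (hTa : IsAdicMod I T) (ha : DerCA.IsProIso a)
    (hle : ∀ n, n ≤ m n) (k : ℕ) (x : L S) (hx : x.1 (m k) = 0) :
    x ∈ (I ^ (k + 1) • ⊤ : Submodule A (L S)) := by
  let e : L S ≃ₗ[A] L T := LinearEquiv.ofBijective (limMapPro hm a)
    ⟨limMapPro_injective hm hle a ha, limMapPro_surjective hm a ha hle⟩
  have h1 : e x ∈ (I ^ (k + 1) • ⊤ : Submodule A (L T)) := by
    refine hTa.mem_pow_smul_of_eq_zero hI (e x) k ?_
    change ac hm a k (x.1 (m k)) = 0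
    rw [hx, map_zero]
  have h2 := Submodule.mem_map_of_mem (f := e.symm.toLinearMap) h1
  rw [Submodule.map_smul'', Submodule.map_top, LinearEquiv.range] at h2
  simpa using h2

end Pro

end K573.ModLim
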