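import Groth.Agent.Algz.K573.StrictConn

/-!
# Irreducible components of `V(p) ∩ V(I)` and minimal primes; existence of good modules
-/

set_option autoImplicit false
universe u

open CategoryTheory CategoryTheory.Limits AlgebraicGeometry Opposite
attribute [local instance] HasDerivedCategory.standard
open Groth.Agent Groth.Agent.FormalB.PuncTheta Groth.Agent.Ega4B.CatHeight IsLocalRing
open K573.StalkBridge

namespace K573.StrictComp

variable {A : Type u} [CommRing A]

/-- The generic point of an irreducible component of `V(p) ∩ V(I)`. -/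
theorem exists_minimalPrime {Z : Set (PrimeSpectrum A)} {J : Ideal A}
    (hZ : Z = PrimeSpectrum.zeroLocus (J : Set A)) {C : Set Z} (hC : C ∈ irreducibleComponents Z) :
    ∃ z : PrimeSpectrum A, z.asIdeal ∈ J.minimalPrimes ∧ Subtype.val '' C = closure {z} := by
  have hZc : IsClosed Z := hZ ▸ PrimeSpectrum.isClosed_zeroLocus _
  have hCc : IsClosed C := isClosed_of_mem_irreducibleComponents C hC
  have h1 : IsIrreducible (Subtype.val '' C : Set (PrimeSpectrum A)) :=
    hC.1.image _ continuous_subtype_val.continuousOn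
  have h2 : IsClosed (Subtype.val '' C : Set (PrimeSpectrum A)) :=
    hZc.isClosedEmbedding_subtypeVal.isClosedMap _ hCc
  obtain ⟨z, hz⟩ := QuasiSober.sober h1 h2
  have hz' : closure {z} = (Subtype.val '' C : Set (PrimeSpectrum A)) := hz
  refine ⟨z, ?_, hz'.symm⟩
  obtain ⟨c, hcC, hcz⟩ : z ∈ (Subtype.val '' C : Set (PrimeSpectrum A)) :=
    hz' ▸ subset_closure rfl
  have hzZ : z ∈ Z := hcz ▸ c.2
  refine ⟨⟨z.2, by rw [hZ] at hzZ; exact hzZ⟩, ?_⟩
  rintro q ⟨hq, hJq⟩ hqz
  let Q : PrimeSpectrum A := ⟨q, hq⟩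
  have hQZ : Q ∈ Z := by rw [hZ]; exact hJq
  have h3 : C ⊆ closure {(⟨Q, hQZ⟩ : Z)} := by
    intro a ha
    rw [closure_subtype, Set.image_singleton]
    have h4 : a.1 ∈ closure {z} := by rw [hz']; exact ⟨a, ha, rfl⟩
    have h5 : Q ⤳ z := (PrimeSpectrum.le_iff_specializes Q z).1 hqz
    exact (specializes_iff_mem_closure.1 (h5.trans (specializes_iff_mem_closure.2 h4)))
  have h4 := hC.2 (isIrreducible_singleton.closure) h3
  have h5 : (⟨Q, hQZ⟩ : Z) ∈ C := h4 (subset_closure rfl)
  have h6 : Q ∈ closure {z} := by rw [hz']; exact ⟨_, h5, rfl⟩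
  exact (PrimeSpectrum.le_iff_specializes z Q).2 (specializes_iff_mem_closure.2 h6)

theorem closure_inter_eq (p : PrimeSpectrum A) (I : Ideal A) :
    (closure {p} : Set (PrimeSpectrum A)) ∩ PrimeSpectrum.zeroLocus (I : Set A) =
      PrimeSpectrum.zeroLocus ((p.asIdeal ⊔ I : Ideal A) : Set A) := by
  rw [PrimeSpectrum.closure_singleton, ← PrimeSpectrum.zeroLocus_sup]

theorem closure_subset_iff (z : PrimeSpectrum A) (J : Ideal A) :
    (closure {z} : Set (PrimeSpectrum A)) ⊆ PrimeSpectrum.zeroLocus (J : Set A) ↔ J ≤ z.asIdeal := by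
  rw [(PrimeSpectrum.isClosed_zeroLocus _).closure_subset_iff, Set.singleton_subset_iff]
  rfl

/-- A coherent module on the punctured spectrum comes from a finite module. -/
theorem exists_mod [IsNoetherianRing A] (U : (Spec (CommRingCat.of A)).Opens)
    (F : (U : Scheme.{u}).Modules) (hF : Coh.IsCoh F) :
    ∃ (M : Type u) (_ : AddCommGroup M) (_ : Module A M), Module.Finite A M ∧
      Nonempty ((Theta U).obj (ModuleCat.of A M) ≅ F) :=
  Groth.Agent.FormalB.PuncTheta2.exists_finite_iso U (TopologicalSpace.NoetherianSpace.isCompact _) F hF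

end K573.StrictComp
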