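import Groth.Agent.Algz.K573.StrictSec

/-!
# Morphisms into modules with complete sections
-/

set_option autoImplicit false
universe u

open CategoryTheory CategoryTheory.Limits AlgebraicGeometry Opposite
open Groth.Agent Groth.Agent.FormalB.PuncTheta Groth.Agent.FormalB.ModPow
open Groth.Agent.CohqB.LimZero

namespace K573.StrictHom

variable {A : Type u} [CommRing A]

theorem exists_modHom {P Q : ModuleCat.{u} A} {R : ℕ → ModuleCat.{u} A} (a : ∀ n, P ⟶ R n)
    (b : ∀ n, Q ⟶ R n) (h : ∀ s : P, ∃! t : Q, ∀ n, (b n).hom t = (a n).hom s) :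
    ∃ g : P ⟶ Q, (∀ n, g ≫ b n = a n) ∧
      ∀ (s : P) (t : Q), (∀ n, (b n).hom t = (a n).hom s) → t = g.hom s := by
  choose t ht hu using h
  let g : P ⟶ Q := ModuleCat.ofHom
    { toFun := t
      map_add' := fun x y => (hu _ _ fun n => by rw [map_add, ht, ht, map_add]).symm
      map_smul' := fun x y => (hu _ _ fun n => by
        rw [RingHom.id_apply, map_smul, ht, map_smul]).symm }
  refine ⟨g, fun n => ?_, fun s t' h => hu _ _ h⟩
  ext s
  exact ht s n

variable (U : (Spec (CommRingCat.of A)).Opens)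

theorem hom_ext_sec {N : ModuleCat.{u} A} {E X : (U : Scheme.{u}).Modules} (e : (Theta U).obj N ≅ E)
    {f g : E ⟶ X}
    (h : (adj U).unit.app N ≫ (Gam U).map e.hom ≫ (Gam U).map f =
      (adj U).unit.app N ≫ (Gam U).map e.hom ≫ (Gam U).map g) : f = g := by
  rw [← cancel_epi e.hom]
  apply ((adj U).homEquiv _ _).injective
  rw [Adjunction.homEquiv_unit, Adjunction.homEquiv_unit, Functor.map_comp, Functor.map_comp]
  exact h

theorem existsUnique_of_sections {N : ModuleCat.{u} A} {E F : (U : Scheme.{u}).Modules}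
    (e : (Theta U).obj N ≅ E) {X : ℕ → (U : Scheme.{u}).Modules} (a : ∀ n, E ⟶ X n)
    (b : ∀ n, F ⟶ X n)
    (h : ∀ s : (Gam U).obj E, ∃! t : (Gam U).obj F, ∀ n, ((Gam U).map (b n)).hom t =
      ((Gam U).map (a n)).hom s) : ∃! φ : E ⟶ F, ∀ n, a n = φ ≫ b n := by
  obtain ⟨g, hg, hu⟩ := exists_modHom (fun n => (Gam U).map (a n)) (fun n => (Gam U).map (b n)) h
  let φ : E ⟶ F := e.inv ≫ ((adj U).homEquiv N F).symm ((adj U).unit.app N ≫ (Gam U).map e.hom ≫ g)
  have h1 : (adj U).unit.app N ≫ (Gam U).map e.hom ≫ (Gam U).map φ =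
        (adj U).unit.app N ≫ (Gam U).map e.hom ≫ g := by
    rw [← Functor.map_comp, Iso.hom_inv_id_assoc]
    exact ((adj U).homEquiv_unit _ _ _).symm.trans (Equiv.apply_symm_apply _ _)
  refine ⟨φ, ?_, ?_⟩
  · intro n
    apply hom_ext_sec U e
    rw [← hg, Functor.map_comp, reassoc_of% h1]
  · intro φ' hφ
    apply hom_ext_sec U e
    rw [h1]
    ext m
    refine hu _ _ fun n => ?_
    have h2 : (Gam U).map (a n) = (Gam U).map φ' ≫ (Gam U).map (b n) := by
      rw [← Functor.map_comp, ← hφ n]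
    exact (congrArg (fun z => z.hom (((adj U).unit.app N ≫ (Gam U).map e.hom).hom m)) h2).symm

/-- If the sections of `F` are complete, maps of completions `E^ ⟶ F^` come from maps `E ⟶ F`. -/
theorem existsUnique_hom (I : Ideal A) {N : ModuleCat.{u} A} {E F : (U : Scheme.{u}).Modules}
    (e : (Theta U).obj N ≅ E) (hF : SecComplete I F)
    (ψ : Formal.completion I E ⟶ Formal.completion I F) :
    ∃! φ : E ⟶ F, ∀ n : ℕ, Formal.modPowπ I (n + 1) E ≫ ψ.app (op n) =
      φ ≫ Formal.modPowπ I (n + 1) F := by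
  let a : ∀ n, E ⟶ Formal.modPow I (n + 1) F := fun n => Formal.modPowπ I (n + 1) E ≫ ψ.app (op n)
  have hcomp : ∀ n, a (n + 1) ≫ Formal.modPowTrans I (n + 1) F = a n := by
    intro n
    have h3 := nat_succ ψ n
    rw [completion_map_succ] at h3
    have h4 := completion_map_succ I F n
    refine (Category.assoc _ _ _).trans ?_
    rw [← h4]
    refine (congrArg (fun z => Formal.modPowπ I (n + 1 + 1) E ≫ z) h3.symm).trans ?_
    refine (Category.assoc _ _ _).symm.trans ?_
    exact congrArg (fun z => z ≫ ψ.app (op n)) (Formal.modPowπ_trans I (n + 1) E)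
  refine existsUnique_of_sections U e a (fun n => Formal.modPowπ I (n + 1) F) fun s => ?_
  refine hF (fun n => ((Gam U).map (a n)).hom s) fun n => ?_
  have h5 : (Gam U).map (a (n + 1)) ≫ (Gam U).map (Formal.modPowTrans I (n + 1) F) =
      (Gam U).map (a n) := by
    rw [← Functor.map_comp, hcomp]
  exact congrArg (fun z => z.hom s) h5

end K573.StrictHom
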