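import Groth.Agent.Algz.K573.StalkBridge
import Groth.Agent.LoccohA.DepthFinite
import Groth.Agent.Algz.K573.EquivBC

/-!
# The strict inequalities for `M~|_U` in terms of primes of `A`
-/

set_option autoImplicit false
universe u

open CategoryTheory CategoryTheory.Limits AlgebraicGeometry Opposite
open Groth.Agent Groth.Agent.FormalB.PuncTheta Groth.Agent.Ega4B.CatHeight IsLocalRing
open K573.StalkBridge

namespace K573.StrictMod

theorem depthAt_congr {R : Type u} [CommRing R] {M N : Type u} [AddCommGroup M] [Module R M]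
    [AddCommGroup N] [Module R N] (e : M ≃ₗ[R] N) (p : PrimeSpectrum R) :
    Algz.depthAt p M = Algz.depthAt p N :=
  Groth.Agent.LoccohA.DepthFinite.depth_localized_congr p.asIdeal e

theorem strictAt_congr {R : Type u} [CommRing R] {J : Ideal R} {M N : Type u} [AddCommGroup M]
    [Module R M] [AddCommGroup N] [Module R N] (e : M ≃ₗ[R] N) {δ : ℕ∞} {a b : ℕ}
    (h : Algz.StrictAbIneqAt R J N δ a b) : Algz.StrictAbIneqAt R J M δ a b := by
  intro p hp
  rw [depthAt_congr e p]
  exact h p hp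

variable {A : Type u} [CommRing A] [IsNoetherianRing A]

theorem strict_mod (hω : ∃ ω : Dual.D A, Dual.IsDualizing A ω) (I : Ideal A)
    (U : (Spec (CommRingCat.of A)).Opens) (F : (U : Scheme.{u}).Modules) (hF : Coh.IsCoh F)
    {M : Type u} [AddCommGroup M] [Module A M]
    (e : (Theta U).obj (ModuleCat.of A M) ≅ F) (a b : ℕ)
    (h : Algz.StrictAbIneq A I U (Formal.completion I F) a b) (p q : PrimeSpectrum A)
    (hpq : p ≤ q) (hp : ¬ I ≤ p.asIdeal) (hq : q ∈ PrimeSpectrum.zeroLocus (R := A) I)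
    (hqU : (show Spec (CommRingCat.of A) from q) ∈ U) :
    (a : ℕ∞) < Algz.depthAt p M + Algz.deltaYZ A I U ⟨q, hq⟩ ∨
      (b : ℕ∞) < Algz.depthAt p M + rlen p q + Algz.deltaYZ A I U ⟨q, hq⟩ := by
  have n1 : IsNoetherian (Spec (CommRingCat.of A)) := inferInstance
  have n2 : IsNoetherian (U : Scheme.{u}) := K573.EquivBC.isNoetherian_opens U
  let y : (U : Scheme.{u}) := ⟨q, hqU⟩
  have hy : U.ι.base y ∈ PrimeSpectrum.zeroLocus (R := A) I := hq
  have h1 := h y hy
  obtain ⟨E⟩ := K573.HatCompl.nonempty_hatEquiv (I := I) F hF y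
  have h2 := strictAt_congr E h1
  obtain ⟨p', hp'⟩ := exists_cm U y (P := p) hpq
  have hfin : Module.Finite ((U : Scheme.{u}).presheaf.stalk y) (F.presheaf.stalk y) :=
    Groth.Agent.CycB.CohStalk.finite_stalk F hF y
  have hIm : Algz.stalkIdeal I y ≤ maximalIdeal ((U : Scheme.{u}).presheaf.stalk y) := by
    have := (stalkIdeal_le_iff U y I (closedPoint _)).2 (by
      rw [cm_closedPoint]
      exact hq)
    exact this
  have h3 := K573.StrictLoc.strict_local (hasDual U y hω) (Algz.stalkIdeal I y) hIm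
    (F.presheaf.stalk y) _ a b h2 p' (by
      rw [stalkIdeal_le_iff, hp']
      exact hp)
  rw [depthAt_stalk U y e p', coheight_cm, hp'] at h3
  exact h3

theorem deltaYZ_le_one (I : Ideal A) (U : (Spec (CommRingCat.of A)).Opens) {q z : PrimeSpectrum A}
    (hq : q ∈ PrimeSpectrum.zeroLocus (R := A) I) (hqz : q ⋖ z)
    (hz : (show Spec (CommRingCat.of A) from z) ∉ U) : Algz.deltaYZ A I U ⟨q, hq⟩ ≤ 1 := by
  have hzI : z ∈ PrimeSpectrum.zeroLocus (R := A) I := fun a ha => hqz.le (hq ha)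
  have hspec : ∀ a b : PrimeSpectrum.zeroLocus (R := A) I, a ⤳ b ↔ a.1 ≤ b.1 := fun a b => by
    exact (Topology.IsInducing.subtypeVal.specializes_iff).symm.trans
      (PrimeSpectrum.le_iff_specializes a.1 b.1).symm
  have h : (⟨q, hq⟩ : PrimeSpectrum.zeroLocus (R := A) I) ⤳ ⟨z, hzI⟩ := (hspec _ _).2 hqz.le
  refine (K572.Dist.deltaZ_le_codimPt (Z := {p : PrimeSpectrum.zeroLocus (R := A) I | p.1 ∉ U.1})
    h hz).trans ?_
  refine K572.Dist.codimPt_le_one h fun w h1 h2 => ?_
  have h3 := (hspec _ _).1 h1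
  have h4 := (hspec _ _).1 h2
  rcases hqz.eq_or_eq h3 h4 with h5 | h5
  · left; exact Subtype.ext h5
  · right; exact Subtype.ext h5

/-- The key estimate. -/
theorem lt_rlen (hω : ∃ ω : Dual.D A, Dual.IsDualizing A ω) (I : Ideal A)
    (U : (Spec (CommRingCat.of A)).Opens) (F : (U : Scheme.{u}).Modules) (hF : Coh.IsCoh F)
    {M : Type u} [AddCommGroup M] [Module A M]
    (e : (Theta U).obj (ModuleCat.of A M) ≅ F) (d : ℕ)
    (h : Algz.StrictAbIneq A I U (Formal.completion I F) 1 (1 + d)) {p q z : PrimeSpectrum A}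
    (hpq : p ≤ q) (hp : ¬ I ≤ p.asIdeal) (hq : q ∈ PrimeSpectrum.zeroLocus (R := A) I)
    (hqU : (show Spec (CommRingCat.of A) from q) ∈ U) (hqz : q ⋖ z)
    (hz : (show Spec (CommRingCat.of A) from z) ∉ U) (hd : Algz.depthAt p M = 0) :
    ((d + 1 : ℕ) : ℕ∞) < rlen p z := by
  have h1 := strict_mod hω I U F hF e 1 (1 + d) h p q hpq hp hq hqU
  have h2 := deltaYZ_le_one I U hq hqz hz
  rw [hd, zero_add, zero_add] at h1
  rcases h1 with h1 | h1
  · exact absurd h1 (not_lt.2 h2)
  · have h3 : ((1 + d : ℕ) : ℕ∞) < rlen p q + rlen q z := by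
      refine h1.trans_le ?_
      rw [rlen_eq_one_of_covBy hqz]
      gcongr
    rw [add_comm]
    exact h3.trans_le (rlen_add_le hpq hqz.le)

end K573.StrictMod
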