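import Groth.Agent.Algz.K573.Base
import Groth.Agent.FormalB.FormalLoc

/-!
# Systems of modules on `Spec A` and systems of `A`-modules
-/

set_option autoImplicit false
universe u

open CategoryTheory CategoryTheory.Limits AlgebraicGeometry Opposite TopologicalSpace
open Groth.Agent.FormalB.ModPow Groth.Agent.FormalB.ModPowAff Groth.Agent.FormalB.AdicSys

namespace K573.TildeSys

theorem pzTilde (B : CommRingCat.{u}) : (tilde.functor B).PreservesZeroMorphisms := inferInstance

theorem pzΓ (B : CommRingCat.{u}) : (moduleSpecΓFunctor (R := B)).PreservesZeroMorphisms :=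
  have := (tilde.adjunction (R := B)).isRightAdjoint
  inferInstance

theorem isIso_unit (B : CommRingCat.{u}) (M : ModuleCat.{u} B) :
    IsIso ((tilde.adjunction (R := B)).unit.app M) := inferInstance

variable {A : Type u} [CommRing A]

theorem smulMod_eq (M : (Spec (CommRingCat.of A)).Modules) (a : A) :
    Formal.smulMod A M a = smulSpec (B := CommRingCat.of A) M a := by
  have h : Coh.toGlobal (Spec (CommRingCat.of A) ↘ Spec (CommRingCat.of A)) a =
      (Scheme.ΓSpecIso (CommRingCat.of A)).inv a := by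
    change (𝟙 (Spec (CommRingCat.of A)) : _ ⟶ _).appTop _ = _
    rw [Scheme.Hom.id_appTop]
    rfl
  rw [Formal.smulMod, h]
  rfl

theorem isQuotBy_of_isModPow {J : Ideal A} {M N : (Spec (CommRingCat.of A)).Modules} {p : M ⟶ N}
    (hp : IsModPow J p) :
    IsQuotBy (fun a : J => smulSpec (B := CommRingCat.of A) M (a : A)) p where
  epi := hp.epi
  zero a := by rw [← smulMod_eq]; exact hp.smul_comp a a.2
  desc φ hφ := hp.desc φ (fun a ha => by rw [smulMod_eq]; exact hφ ⟨a, ha⟩)

theorem isModPow_of_isQuotBy {J : Ideal A} {M N : (Spec (CommRingCat.of A)).Modules} {p : M ⟶ N}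
    (hp : IsQuotBy (fun a : J => smulSpec (B := CommRingCat.of A) M (a : A)) p) : IsModPow J p where
  epi := hp.epi
  smul_comp a ha := by rw [smulMod_eq]; exact hp.zero ⟨a, ha⟩
  desc φ hφ := hp.desc φ (fun a => by rw [← smulMod_eq]; exact hφ a a.2)

theorem span_range_coe (J : Ideal A) : Ideal.span (Set.range fun a : J => (a : A)) = J := by
  rw [Subtype.range_coe_subtype]
  exact Ideal.span_eq J

/-- Global sections of `M ⟶ M / J M` on `Spec A`. -/
theorem sections_of_isModPow {J : Ideal A} {M N : (Spec (CommRingCat.of A)).Modules}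
    (hM : Coh.IsQCoh M) {p : M ⟶ N} (hp : IsModPow J p) :
    Function.Surjective ((moduleSpecΓFunctor (R := CommRingCat.of A)).map p).hom ∧
      ∀ m : (moduleSpecΓFunctor (R := CommRingCat.of A)).obj M,
        ((moduleSpecΓFunctor (R := CommRingCat.of A)).map p).hom m = 0 ↔
          m ∈ (J • ⊤ : Submodule A ((moduleSpecΓFunctor (R := CommRingCat.of A)).obj M)) := by
  have : IsIso (Scheme.Modules.fromTildeΓ (R := CommRingCat.of A) M) :=
    Scheme.Modules.isIso_fromTildeΓ_of_isQuasicoherent (R := CommRingCat.of A) _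
  obtain ⟨h1, h2⟩ := sections_of_isQuotBy (B := CommRingCat.of A) (fun a : J => (a : A))
    (isQuotBy_of_isModPow hp)
  refine ⟨h1, fun m => ?_⟩
  rw [h2, qMap_eq_zero_iff]
  have h3 : Ideal.span (Set.range fun a : J => (a : A)) = J := span_range_coe J
  exact Iff.of_eq (congrArg (fun K : Ideal A => m ∈ (K • ⊤ : Submodule A
    ((moduleSpecΓFunctor (R := CommRingCat.of A)).obj M))) h3)

/-- If `q : M → N` is surjective with kernel `J M`, then `N~` is `M~` modulo `J`. -/
theorem isModPow_tilde (J : Ideal A) {M N : ModuleCat.{u} A} (q : M ⟶ N)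
    (hq : Function.Surjective q.hom) (hker : ∀ m : M, q.hom m = 0 ↔ m ∈ (J • ⊤ : Submodule A M)) :
    IsModPow J ((tilde.functor (CommRingCat.of A)).map q) := by
  apply isModPow_of_isQuotBy
  have h0 : IsQuotBy (fun a : J => smulMC (B := CommRingCat.of A) M (a : A)) q := by
    refine ⟨(ModuleCat.epi_iff_surjective _).2 hq, fun a => ?_, ?_⟩
    · ext x
      change q.hom ((a : A) • x) = 0
      rw [hker]
      exact Submodule.smul_mem_smul a.2 trivial
    · intro Z φ hφ
      have h : LinearMap.ker q.hom ≤ LinearMap.ker φ.hom := by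
        intro m hm
        rw [LinearMap.mem_ker, hker] at hm
        refine Submodule.smul_induction_on hm (fun a ha m _ => ?_) (fun x y hx hy => ?_)
        · exact congr(($(hφ ⟨a, ha⟩)).hom m)
        · exact Submodule.add_mem _ hx hy
      let e : (M ⧸ LinearMap.ker q.hom) ≃ₗ[A] N := q.hom.quotKerEquivOfSurjective hq
      refine ⟨ModuleCat.ofHom (((LinearMap.ker q.hom).liftQ φ.hom h).comp e.symm.toLinearMap), ?_⟩
      ext m
      have : e.symm (q.hom m) = Submodule.Quotient.mk m := by
        rw [LinearEquiv.symm_apply_eq]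
        rfl
      change (LinearMap.ker q.hom).liftQ φ.hom h (e.symm (q.hom m)) = _
      rw [this]
      rfl
  have := pzTilde (CommRingCat.of A)
  have h1 := h0.map (tilde.adjunction (R := CommRingCat.of A))
  simp only [tilde_map_smulMC] at h1
  exact h1

theorem isCoh_tilde (M : ModuleCat.{u} A) [h : Module.Finite A M] :
    Coh.IsCoh ((tilde.functor (CommRingCat.of A)).obj M) :=
  Groth.Agent.Ega1.ExtendAff2.isCoh_tilde (R := CommRingCat.of A) M

/-- The transition maps of a system of modules. -/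
abbrev tmap (S : ℕᵒᵖ ⥤ ModuleCat.{u} A) (n : ℕ) :
    S.obj (op (n + 1)) →ₗ[A] S.obj (op n) := (S.map (homOfLE (Nat.le_succ n)).op).hom

/-- `S` is an adic system of finite modules. -/
abbrev IsAdicMod (I : Ideal A) (S : ℕᵒᵖ ⥤ ModuleCat.{u} A) : Prop :=
  IsAdicSys (M := fun n => S.obj (op n)) I (tmap S)

theorem killedBy_tilde (J : Ideal A) (M : ModuleCat.{u} A) (h : ∀ a ∈ J, ∀ m : M, a • m = 0) :
    Formal.KilledBy J ((tilde.functor (CommRingCat.of A)).obj M) := by
  intro a ha
  rw [smulMod_eq, ← tilde_map_smulMC]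
  have : smulMC (B := CommRingCat.of A) M a = 0 := by
    ext x
    exact h a ha x
  have := pzTilde (CommRingCat.of A)
  rw [‹smulMC (B := CommRingCat.of A) M a = 0›]
  exact (tilde.functor (CommRingCat.of A)).map_zero _ _

theorem ker_iff {I : Ideal A} {S : ℕᵒᵖ ⥤ ModuleCat.{u} A} (h : IsAdicMod I S) (n : ℕ)
    (x : S.obj (op (n + 1))) : tmap S n x = 0 ↔ x ∈ (I ^ (n + 1) • ⊤ : Submodule A (S.obj (op (n + 1)))) := by
  refine ⟨h.ker_le n x, fun hx => ?_⟩
  refine Submodule.smul_induction_on hx (fun a ha m _ => ?_) (fun x y hx hy => ?_)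
  · rw [map_smul, h.kill n a ha]
  · rw [map_add, hx, hy, add_zero]

/-- An adic system of finite modules gives a coherent formal system. -/
theorem isCohFormal_tilde {I : Ideal A} {S : ℕᵒᵖ ⥤ ModuleCat.{u} A} (h : IsAdicMod I S) :
    Formal.IsCohFormal I (S ⋙ tilde.functor (CommRingCat.of A)) := by
  rw [isCohFormal_iff]
  refine ⟨fun n => ?_, ⟨fun n => ?_, fun n => ?_⟩⟩
  · have := h.finite n
    exact isCoh_tilde (S.obj (op n))
  · exact killedBy_tilde _ _ (h.kill n)
  · exact isModPow_tilde _ (S.map (homOfLE (Nat.le_succ n)).op) (h.surj n) (ker_iff h n)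

theorem finite_sections (M : (Spec (CommRingCat.of A)).Modules) (hM : Coh.IsCoh M) :
    Module.Finite A ((moduleSpecΓFunctor (R := CommRingCat.of A)).obj M) := by
  have := hM.1
  have h1 : Module.Finite Γ(Spec (CommRingCat.of A), ⊤) Γ(M, ⊤) :=
    Groth.Agent.CohqB.FiniteType2.finite_sections_of_isFT M hM.2 (isAffineOpen_top _)
  obtain ⟨s, hs⟩ := h1
  refine ⟨⟨s, ?_⟩⟩
  have key : ∀ x : Γ(M, ⊤), x ∈ Submodule.span Γ(Spec (CommRingCat.of A), ⊤) (s : Set Γ(M, ⊤)) →
      (show ((moduleSpecΓFunctor (R := CommRingCat.of A)).obj M) from x) ∈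
        Submodule.span A (show Set ((moduleSpecΓFunctor (R := CommRingCat.of A)).obj M) from
          (s : Set Γ(M, ⊤))) := by
   intro x hx
   induction hx using Submodule.span_induction with
   | mem y hy => exact Submodule.subset_span hy
   | zero => exact zero_mem _
   | add y z _ _ hy hz => exact add_mem hy hz
   | smul c y _ hy =>
    have h2 := Submodule.smul_mem _ ((Scheme.ΓSpecIso (CommRingCat.of A)).hom c) hy
    have h3 : ((Scheme.ΓSpecIso (CommRingCat.of A)).hom c : A) •
        (show ((moduleSpecΓFunctor (R := CommRingCat.of A)).obj M) from y) =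
        (show Γ(M, ⊤) from c • y) := by
      change ((Scheme.ΓSpecIso (CommRingCat.of A)).inv ((Scheme.ΓSpecIso (CommRingCat.of A)).hom c) :
        Γ(Spec (CommRingCat.of A), ⊤)) • (show Γ(M, ⊤) from y) = _
      have h4 : (Scheme.ΓSpecIso (CommRingCat.of A)).inv ((Scheme.ΓSpecIso (CommRingCat.of A)).hom c) = c :=
        congrArg (fun t => t.hom c) (Scheme.ΓSpecIso (CommRingCat.of A)).hom_inv_id
      rw [h4]
    rw [h3] at h2
    exact h2
  rw [eq_top_iff]
  rintro x -
  exact key x (by rw [hs]; trivial)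

/-- Global sections of a coherent formal system form an adic system. -/
theorem isAdicMod_sections {I : Ideal A} {G : ℕᵒᵖ ⥤ (Spec (CommRingCat.of A)).Modules}
    (hG : Formal.IsCohFormal I G) : IsAdicMod I (G ⋙ moduleSpecΓFunctor (R := CommRingCat.of A)) := by
  rw [isCohFormal_iff] at hG
  refine ⟨fun n => finite_sections _ (hG.1 n), fun n a ha x => ?_, fun n => ?_, fun n x hx => ?_⟩
  · have h1 : Formal.smulMod A (G.obj (op n)) a = 0 := hG.2.killed n a ha
    rw [smulMod_eq] at h1
    have h2 := Γ_map_smulSpec (B := CommRingCat.of A) (G.obj (op n)) a x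
    have := pzΓ (CommRingCat.of A)
    have h3 : (moduleSpecΓFunctor (R := CommRingCat.of A)).map
      (0 : G.obj (op n) ⟶ G.obj (op n)) = 0 := Functor.map_zero _ _ _
    rw [h1, h3] at h2
    exact h2.symm
  · exact (sections_of_isModPow (hG.1 (n + 1)).1 (hG.2.succ n)).1
  · exact ((sections_of_isModPow (hG.1 (n + 1)).1 (hG.2.succ n)).2 x).1 hx

/-- A quasi-coherent system on `Spec A` is the tilde of its sections. -/
noncomputable def sectionsTildeIso (G : ℕᵒᵖ ⥤ (Spec (CommRingCat.of A)).Modules)
    (hG : ∀ n : ℕ, Coh.IsQCoh (G.obj (op n))) :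
    (G ⋙ moduleSpecΓFunctor (R := CommRingCat.of A)) ⋙ tilde.functor (CommRingCat.of A) ≅ G :=
  NatIso.ofComponents (fun n => @asIso _ _ _ _
      ((tilde.adjunction (R := CommRingCat.of A)).counit.app (G.obj n))
      (@Scheme.Modules.isIso_fromTildeΓ_of_isQuasicoherent (CommRingCat.of A) _ (hG n.unop)))
    (fun f => (tilde.adjunction (R := CommRingCat.of A)).counit.naturality (G.map f))

/-- A system of modules is the sections of its tilde. -/
noncomputable def tildeSectionsIso (S : ℕᵒᵖ ⥤ ModuleCat.{u} A) :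
    S ≅ (S ⋙ tilde.functor (CommRingCat.of A)) ⋙ moduleSpecΓFunctor (R := CommRingCat.of A) :=
  NatIso.ofComponents (fun n => @asIso _ _ _ _
      ((tilde.adjunction (R := CommRingCat.of A)).unit.app (S.obj n)) (isIso_unit _ _))
    (fun f => (tilde.adjunction (R := CommRingCat.of A)).unit.naturality (S.map f))

end K573.TildeSys
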